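import Mathlib
import Cfsg.Agent.ClassicalMax.Generic

/-!
Direct sum decompositions into subspaces of equal dimension: projections, maps permuting the summands,
dilations, and permutations of the summands with determinant one.
-/

set_option autoImplicit false

namespace Cfsg.Agent.Classical.Decomp

open Module Cfsg.Agent.ClassicalMax

variable {F V : Type*} [Field F] [AddCommGroup V] [Module F V] {ι : Type*} [Fintype ι] [DecidableEq ι]

/-- `g` permutes the members of the family `D` -/
def Permutes (D : ι → Submodule F V) (g : V ≃ₗ[F] V) : Prop :=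
  ∃ σ : Equiv.Perm ι, ∀ i, (D i).map g.toLinearMap = D (σ i)

/-- a family of projections belonging to a direct sum decomposition -/
structure IsProj (D : ι → Submodule F V) (P : ι → V →ₗ[F] V) : Prop where
  mem : ∀ i x, P i x ∈ D i
  sum : ∀ x, ∑ i, P i x = x
  self : ∀ i, ∀ x ∈ D i, P i x = x
  other : ∀ i k, k ≠ i → ∀ x ∈ D k, P i x = 0

theorem exists_proj {D : ι → Submodule F V} (hi : iSupIndep D) (hs : iSup D = ⊤) :
    ∃ P : ι → V →ₗ[F] V, IsProj D P := by
  classical
  have h := DirectSum.isInternal_submodule_of_iSupIndep_of_iSup_eq_top hi hs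
  let e := LinearEquiv.ofBijective (DirectSum.coeLinearMap D) h
  refine ⟨fun i => (D i).subtype ∘ₗ DirectSum.component F ι (fun i => D i) i ∘ₗ e.symm.toLinearMap,
    fun i x => (e.symm x i).2, fun x => ?_, fun i x hx => ?_, fun i k hki x hx => ?_⟩
  · have e2 : DirectSum.coeLinearMap D (e.symm x) = x := e.apply_symm_apply x
    conv_rhs => rw [← e2, ← DFinsupp.sum_single (f := e.symm x)]
    rw [map_dfinsuppSum, DFinsupp.sum]
    refine (Finset.sum_subset (Finset.subset_univ (DFinsupp.support (e.symm x))) fun i _ hi => ?_).symm.trans ?_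
    · simp only [DFinsupp.mem_support_toFun, not_not] at hi
      show ((e.symm x i : D i) : V) = 0
      rw [hi]; rfl
    · exact Finset.sum_congr rfl fun i _ => (DirectSum.coeLinearMap_of D i _).symm
  · show ((e.symm x i : D i) : V) = x
    rw [DirectSum.IsInternal.ofBijective_coeLinearMap_of_mem h hx]
  · show ((e.symm x i : D i) : V) = 0
    rw [DirectSum.IsInternal.ofBijective_coeLinearMap_of_mem_ne h hki hx]
    rfl

/-- the dilation `x ↦ x + (c - 1) θ(x) y`, the identity unless `θ y = 1` -/
noncomputable def dil (θ : Dual F V) (y : V) (c : Fˣ) : V ≃ₗ[F] V := by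
  classical
  exact if h : θ y = 1 then
    LinearEquiv.ofLinear (LinearMap.transvection θ (((c : F) - 1) • y))
      (LinearMap.transvection θ ((((c⁻¹ : Fˣ) : F) - 1) • y))
      (LinearMap.ext fun x => by
        simp only [LinearMap.comp_apply, LinearMap.transvection.apply, map_add, map_smul, h, smul_eq_mul, smul_smul,
          mul_one, LinearMap.id_apply, Units.val_inv_eq_inv_val]
        have hc := c.ne_zero
        match_scalars <;> field_simp <;> ring)
      (LinearMap.ext fun x => by
        simp only [LinearMap.comp_apply, LinearMap.transvection.apply, map_add, map_smul, h, smul_eq_mul, smul_smul,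
          mul_one, LinearMap.id_apply, Units.val_inv_eq_inv_val]
        have hc := c.ne_zero
        match_scalars <;> field_simp <;> ring)
  else 1

variable {θ : Dual F V} {y : V}

theorem dil_apply (h : θ y = 1) (c : Fˣ) (x : V) : dil θ y c x = x + θ x • (((c : F) - 1) • y) := by
  classical
  rw [dil, dif_pos h]; rfl

theorem dil_inv (h : θ y = 1) (c : Fˣ) : (dil θ y c)⁻¹ = dil θ y c⁻¹ := by
  refine inv_eq_of_mul_eq_one_right (LinearEquiv.ext fun x => ?_)
  rw [LinearEquiv.mul_apply, dil_apply h, dil_apply h]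
  simp only [map_add, map_smul, h, smul_eq_mul, smul_smul, mul_one, Units.val_inv_eq_inv_val,
    LinearEquiv.coe_one, id_eq]
  have hc := c.ne_zero
  match_scalars <;> field_simp <;> ring

theorem det_dil [FiniteDimensional F V] (h : θ y = 1) (c : Fˣ) :
    LinearMap.det (dil θ y c : V ≃ₗ[F] V).toLinearMap = c := by
  classical
  rw [dil, dif_pos h]
  show LinearMap.det (LinearMap.transvection θ (((c : F) - 1) • y)) = _
  rw [LinearMap.transvection.det, map_smul, h, smul_eq_mul, mul_one]
  ring

theorem conj_dil (g : V ≃ₗ[F] V) (h : θ y = 1) (c : Fˣ) :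
    g * dil θ y c * g⁻¹ = dil (θ.comp (g⁻¹ : V ≃ₗ[F] V).toLinearMap) (g y) c :=
  LinearEquiv.ext fun x => by
    have h' : (θ.comp (g⁻¹ : V ≃ₗ[F] V).toLinearMap) (g y) = 1 := by
      show θ (g⁻¹ (g y)) = 1
      rw [inv_apply, h]
    rw [LinearEquiv.mul_apply, LinearEquiv.mul_apply, dil_apply h, dil_apply h', map_add, map_smul, map_smul,
      apply_inv]
    rfl

theorem det_mul (g g' : V ≃ₗ[F] V) :
    LinearMap.det (g * g').toLinearMap = LinearMap.det g.toLinearMap * LinearMap.det g'.toLinearMap :=
  LinearMap.det_comp _ _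

theorem det_inv (g : V ≃ₗ[F] V) :
    LinearMap.det (g⁻¹ : V ≃ₗ[F] V).toLinearMap = (LinearMap.det g.toLinearMap)⁻¹ := by
  refine eq_inv_of_mul_eq_one_left ?_
  rw [← det_mul, inv_mul_cancel]
  exact LinearMap.det_id

variable {D : ι → Submodule F V} {m : ℕ}

theorem permutes_of_le [FiniteDimensional F V] (hdim : ∀ i, finrank F (D i) = m) (g : V ≃ₗ[F] V)
    (σ : Equiv.Perm ι) (h : ∀ i, ∀ x ∈ D i, g x ∈ D (σ i)) : Permutes D g :=
  ⟨σ, fun i => Submodule.eq_of_le_of_finrank_eq (Submodule.map_le_iff_le_comap.2 (h i))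
    (by rw [LinearEquiv.finrank_map_eq, hdim, hdim])⟩

theorem permutes_id (D : ι → Submodule F V) : Permutes D (1 : V ≃ₗ[F] V) :=
  ⟨1, fun i => Submodule.map_id _⟩

variable {P : ι → V →ₗ[F] V}

theorem permutes_tvec [FiniteDimensional F V] (hdim : ∀ i, finrank F (D i) = m) (hP : IsProj D P) {j : ι}
    {u : V} (hu : u ∈ D j) (ψ : Dual F V) (h0 : ψ (P j u) = 0) : Permutes D (tvec (ψ.comp (P j)) u) :=
  permutes_of_le hdim _ 1 fun i x hx => by
    rw [tvec_apply (show (ψ.comp (P j)) u = 0 from h0), Equiv.Perm.one_apply]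
    rcases eq_or_ne i j with rfl | hij
    · exact add_mem hx (Submodule.smul_mem _ _ hu)
    · rw [LinearMap.comp_apply, hP.other j i hij x hx, map_zero, zero_smul, add_zero]
      exact hx

theorem permutes_dil [FiniteDimensional F V] (hdim : ∀ i, finrank F (D i) = m) (hP : IsProj D P) {j : ι}
    {y : V} (hy : y ∈ D j) (θ : Dual F V) (h : θ (P j y) = 1) (c : Fˣ) :
    Permutes D (dil (θ.comp (P j)) y c) :=
  permutes_of_le hdim _ 1 fun i x hx => by
    rw [dil_apply (show (θ.comp (P j)) y = 1 from h), Equiv.Perm.one_apply]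
    rcases eq_or_ne i j with rfl | hij
    · exact add_mem hx (Submodule.smul_mem _ _ (Submodule.smul_mem _ _ hy))
    · rw [LinearMap.comp_apply, hP.other j i hij x hx, map_zero, zero_smul, add_zero]
      exact hx

/-- every permutation of the summands is induced by an element of determinant one -/
theorem exists_perm [FiniteDimensional F V] (hi : iSupIndep D) (hs : iSup D = ⊤) (hm : 0 < m)
    (hdim : ∀ i, finrank F (D i) = m) (σ : Equiv.Perm ι) :
    ∃ g : V ≃ₗ[F] V, (∀ i, ∀ x ∈ D i, g x ∈ D (σ i)) ∧ Permutes D g ∧ LinearMap.det g.toLinearMap = 1 := by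
  classical
  have h := DirectSum.isInternal_submodule_of_iSupIndep_of_iSup_eq_top hi hs
  let b : ∀ i, Basis (Fin m) F (D i) := fun i => (Module.finBasis F (D i)).reindex (finCongr (hdim i))
  let B := h.collectedBasis b
  obtain ⟨P, hP⟩ := exists_proj hi hs
  let g0 := B.equiv B (Equiv.sigmaCongrLeft (β := fun _ => Fin m) σ)
  have h0 : ∀ i, ∀ x ∈ D i, g0 x ∈ D (σ i) := fun i x hx => by
    have : x ∈ (D (σ i)).comap g0.toLinearMap := by
      have hle : D i ≤ Submodule.span F (Set.range fun k => B ⟨i, k⟩) := fun x hx => by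
        have := Submodule.mem_map_of_mem (f := (D i).subtype) ((b i).mem_span ⟨x, hx⟩)
        rw [Submodule.map_span, ← Set.range_comp] at this
        convert this using 3
        · funext k
          simp [B, Function.comp_def]
        · rfl
      refine (hle.trans (Submodule.span_le.2 ?_)) hx
      rintro _ ⟨k, rfl⟩
      show g0 (B ⟨i, k⟩) ∈ D (σ i)
      rw [Basis.equiv_apply]
      exact h.collectedBasis_mem b ⟨σ i, k⟩
    exact this
  cases isEmpty_or_nonempty ι with
  | inl hE => exact ⟨1, fun i => hE.elim i, permutes_id D, LinearMap.det_id⟩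
  | inr hne =>
    obtain ⟨j⟩ := hne
    let y := B ⟨j, ⟨0, hm⟩⟩
    have hy : y ∈ D j := h.collectedBasis_mem b ⟨j, ⟨0, hm⟩⟩
    obtain ⟨θ, hθ, -⟩ := exists_dual_one (⊥ : Submodule F V) (x := y) (by
      rw [Submodule.mem_bot]; exact B.ne_zero _)
    have hθ' : θ (P j y) = 1 := by rw [hP.self j y hy, hθ]
    have hd : LinearMap.det g0.toLinearMap ≠ 0 := g0.isUnit_det'.ne_zero
    refine ⟨g0 * dil (θ.comp (P j)) y (Units.mk0 _ hd)⁻¹, fun i x hx => ?_, ?_, ?_⟩
    · rw [LinearEquiv.mul_apply]
      refine h0 i _ ?_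
      rw [dil_apply (show (θ.comp (P j)) y = 1 from hθ')]
      rcases eq_or_ne i j with rfl | hij
      · exact add_mem hx (Submodule.smul_mem _ _ (Submodule.smul_mem _ _ hy))
      · rw [LinearMap.comp_apply, hP.other j i hij x hx, map_zero, zero_smul, add_zero]
        exact hx
    · refine permutes_of_le hdim _ σ fun i x hx => ?_
      rw [LinearEquiv.mul_apply]
      refine h0 i _ ?_
      rw [dil_apply (show (θ.comp (P j)) y = 1 from hθ')]
      rcases eq_or_ne i j with rfl | hij
      · exact add_mem hx (Submodule.smul_mem _ _ (Submodule.smul_mem _ _ hy))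
      · rw [LinearMap.comp_apply, hP.other j i hij x hx, map_zero, zero_smul, add_zero]
        exact hx
    · rw [det_mul, det_dil (show (θ.comp (P j)) y = 1 from hθ'), Units.val_inv_eq_inv_val, Units.val_mk0,
        mul_inv_cancel₀ hd]

end Cfsg.Agent.Classical.Decomp
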