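import Cfsg.Agent.Classical.Decomp.Mono

/-!
An overgroup of the monomial group contains a non-monomial element fixing a coordinate line.
-/

set_option autoImplicit false

namespace Cfsg.Agent.Classical.Decomp

open Module Cfsg.Agent.ClassicalMax

variable {F V : Type*} [Field F] [AddCommGroup V] [Module F V] {ι : Type*} [Fintype ι] [DecidableEq ι]
  {e : Basis ι F V} {M : Subgroup (V ≃ₗ[F] V)}

/-- `M` contains the monomial elements of determinant one -/
structure MOver (e : Basis ι F V) (M : Subgroup (V ≃ₗ[F] V)) : Prop where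
  stab : ∀ g, Mono e g → LinearMap.det g.toLinearMap = 1 → g ∈ M
  large : 4 ≤ Fintype.card ι

/-- some non-monomial element of `M` fixes a coordinate line -/
def HasFix (e : Basis ι F V) (M : Subgroup (V ≃ₗ[F] V)) : Prop :=
  ∃ (t : ι) (y : V ≃ₗ[F] V), y ∈ M ∧ ¬ Mono e y ∧ ∃ c : F, y (e t) = c • e t

theorem MOver.of_single (h : MOver e M) {x : V ≃ₗ[F] V} (hx : x ∈ M) (hn : ¬ Mono e x) {s p : ι} {c : F}
    (hc : x (e s) = c • e p) : HasFix e M := by
  obtain ⟨d, hd⟩ := exists_det_one (e := e) (Equiv.swap p s)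
  refine ⟨s, monE e (Equiv.swap p s) d * x, mul_mem (h.stab _ (mono_monE _ _) hd) hx, fun hm => hn ?_,
    c * d p, ?_⟩
  · have := (mono_monE (e := e) (Equiv.swap p s) d).inv.mul hm
    rwa [inv_mul_cancel_left] at this
  · rw [LinearEquiv.mul_apply, hc, map_smul, monE_basis, Equiv.swap_apply_left, smul_smul]

theorem repr_eq_single {v : V} {p : ι} (hv : ∀ i, i ≠ p → e.repr v i = 0) : v = e.repr v p • e p := by
  conv_lhs => rw [← e.sum_repr v]
  exact Finset.sum_eq_single p (fun b _ hb => by rw [hv b hb, zero_smul]) (by simp)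

/-- a diagonal element on two zero coordinates of a column, conjugated back -/
theorem MOver.zero_pair (h : MOver e M) (hfix : ¬ HasFix e M) {x : V ≃ₗ[F] V} (hx : x ∈ M) (hn : ¬ Mono e x)
    {t p q : ι} (hpq : p ≠ q) (hp : e.repr (x (e t)) p = 0) (hq : e.repr (x (e t)) q = 0) {b : Fˣ}
    (hb2 : b ^ 2 ≠ 1) (hb3 : b ^ 3 ≠ 1) :
    ∃ a a' : ι, a ≠ a' ∧ (∀ i, i ≠ a → i ≠ a' → e.repr (x⁻¹ (e p)) i = 0) ∧
      (∀ i, i ≠ a → i ≠ a' → e.repr (x⁻¹ (e q)) i = 0) ∧ e.repr (x⁻¹ (e p)) a ≠ 0 := by
  set u := x⁻¹ (e p) with hu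
  set hh := monE e 1 (dpair p q b) with hhh
  have hhM : hh ∈ M := h.stab _ (mono_monE _ _) (det_dpair hpq b)
  set y := x⁻¹ * hh * x with hy
  have hyM : y ∈ M := mul_mem (mul_mem (inv_mem hx) hhM) hx
  have hhp : hh (e p) = (b : F) • e p := by rw [hhh, monE_basis, dpair_left, Equiv.Perm.one_apply]
  have hhq : hh (e q) = ((b⁻¹ : Fˣ) : F) • e q := by rw [hhh, monE_basis, dpair_right hpq, Equiv.Perm.one_apply]
  have hdiff : ∀ v, hh v - v = (((b : F) - 1) * e.repr v p) • e p + ((((b⁻¹ : Fˣ) : F) - 1) * e.repr v q) • e q := by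
    intro v
    conv_lhs => rw [← e.sum_repr v, map_sum, ← Finset.sum_sub_distrib]
    rw [Fintype.sum_eq_add p q hpq, map_smul, map_smul, hhp, hhq, smul_smul, smul_smul]
    · match_scalars <;> ring
    · rintro i ⟨hip, hiq⟩
      rw [map_smul, hhh, monE_basis, dpair_other hip hiq, Units.val_one, one_smul, Equiv.Perm.one_apply, sub_self]
  have hyt : y (e t) = (1 : F) • e t := by
    have := hdiff (x (e t))
    rw [hp, hq, mul_zero, mul_zero, zero_smul, zero_smul, add_zero, sub_eq_zero] at this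
    rw [hy, LinearEquiv.mul_apply, LinearEquiv.mul_apply, this, inv_apply, one_smul]
  have hymono : Mono e y := by
    by_contra hc
    exact hfix ⟨t, y, hyM, hc, 1, hyt⟩
  obtain ⟨σ, c, hyc⟩ := exists_monE hymono
  have hyu : y u = (b : F) • u := by
    rw [hy, hu, LinearEquiv.mul_apply, LinearEquiv.mul_apply, apply_inv, hhp, map_smul]
  have key : ∀ i, (b : F) * e.repr u (σ i) = c i * e.repr u i := fun i => by
    rw [← repr_monE, ← hyc, hyu, map_smul, Finsupp.smul_apply, smul_eq_mul]
  obtain ⟨a, ha⟩ : ∃ a, e.repr u a ≠ 0 := by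
    by_contra hc
    push Not at hc
    exact e.ne_zero p (x⁻¹.map_eq_zero_iff.1 (e.repr.map_eq_zero_iff.1 (Finsupp.ext hc)))
  by_cases hfx : σ a = a
  · exfalso
    have hca : (c a : F) = b := by
      have := key a
      rw [hfx] at this
      exact (mul_right_cancel₀ ha this).symm
    have hxa : hh (x (e a)) = (b : F) • x (e a) := by
      have : x (y (e a)) = hh (x (e a)) := by
        rw [hy, LinearEquiv.mul_apply, LinearEquiv.mul_apply, apply_inv]
      rw [← this, hyc, monE_basis, hfx, hca, map_smul]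
    have hb1 : (b : F) ≠ 1 := fun e' => hb2 (by rw [Units.val_eq_one.1 e', one_pow])
    refine hfix (h.of_single hx hn (repr_eq_single (v := x (e a)) (p := p) fun i hi => ?_))
    have e1 := congrArg (fun v => e.repr v i) hxa
    rw [map_smul, Finsupp.smul_apply, smul_eq_mul, show i = (1 : Equiv.Perm ι) i from rfl, hhh, repr_monE,
      Equiv.Perm.one_apply] at e1
    by_contra hne
    have e2 := mul_right_cancel₀ hne e1
    rcases eq_or_ne i q with rfl | hiq
    · rw [dpair_right hi.symm, Units.val_inj] at e2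
      exact hb2 (by rw [pow_two]; nth_rewrite 1 [← e2]; exact inv_mul_cancel b)
    · rw [dpair_other hi hiq, Units.val_one] at e2
      exact hb1 e2.symm
  haveI : FiniteDimensional F V := Module.Finite.of_basis e
  set a' := σ a with ha'
  set a'' := σ a' with ha''
  let v : ι → V := fun i => y (e i) - e i
  have hv : ∀ i, v i = (c i : F) • e (σ i) - e i := fun i => by
    show y (e i) - e i = _
    rw [hyc, monE_basis]
  have hW : ∀ i, v i ∈ Submodule.span F ({u, x⁻¹ (e q)} : Set V) := fun i => by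
    show y (e i) - e i ∈ _
    rw [hy, LinearEquiv.mul_apply, LinearEquiv.mul_apply]
    conv => arg 2; arg 2; rw [← inv_apply x (e i)]
    rw [← map_sub, hdiff, map_add, map_smul, map_smul]
    exact Submodule.mem_span_pair.2 ⟨_, _, rfl⟩
  have hW2 : ∀ i j, LinearIndependent F ![v i, v j] →
      Submodule.span F ({u, x⁻¹ (e q)} : Set V) = Submodule.span F (Set.range ![v i, v j]) := by
    intro i j hli
    refine (Submodule.eq_of_le_of_finrank_le (Submodule.span_le.2 ?_) ?_).symm
    · rintro _ ⟨k, rfl⟩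
      fin_cases k
      exacts [hW i, hW j]
    · classical
      rw [finrank_span_eq_card hli, Fintype.card_fin]
      refine (finrank_span_le_card _).trans ?_
      rw [Set.toFinset_insert, Set.toFinset_singleton]
      exact Finset.card_le_two
  have haa' : a' ≠ a := hfx
  have ha'a'' : a'' ≠ a' := fun e' => haa' (σ.injective e')
  have kb : (b : F) * e.repr u a' = c a * e.repr u a := key a
  by_cases h2 : a'' = a
  · refine ⟨a, a', haa'.symm, ?_⟩
    have hne : (c a : F) * c a' ≠ 1 := fun e1 => by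
      have k2 := key a'
      rw [← ha'', h2] at k2
      refine hb2 (Units.val_eq_one.1 (mul_right_cancel₀ ha (?_ : _ = 1 * e.repr u a)))
      rw [one_mul, Units.val_pow_eq_pow_val]
      linear_combination (b : F) * k2 + (c a' : F) * kb + e.repr u a * e1
    have hli : LinearIndependent F ![v a, v a'] := by
      rw [LinearIndependent.pair_iff]
      intro s r hsr
      rw [hv, hv, ← ha', ← ha'', h2] at hsr
      have c1 := congrArg (fun w => e.repr w a) hsr
      have c2 := congrArg (fun w => e.repr w a') hsr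
      simp [haa', haa'.symm] at c1 c2
      have hr : r * ((c a : F) * c a' - 1) = 0 := by linear_combination (c a : F) * c1 + c2
      have hr0 := (mul_eq_zero.1 hr).resolve_right (sub_ne_zero.2 hne)
      rw [hr0] at c1
      exact ⟨by linear_combination -c1, hr0⟩
    have : ∀ w ∈ Submodule.span F ({u, x⁻¹ (e q)} : Set V), ∀ i, i ≠ a → i ≠ a' → e.repr w i = 0 := by
      intro w hw i hi hi'
      rw [hW2 a a' hli] at hw
      obtain ⟨f, rfl⟩ := Submodule.mem_span_range_iff_exists_fun F |>.1 hw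
      rw [Fin.sum_univ_two]
      show e.repr (f 0 • v a + f 1 • v a') i = 0
      rw [hv, hv, ← ha', ← ha'', h2]
      simp [hi, hi', hi.symm, hi'.symm]
    exact ⟨this u (Submodule.subset_span (Set.mem_insert ..)),
      this _ (Submodule.subset_span (Set.mem_insert_of_mem _ rfl)), ha⟩
  exfalso
  have hli : LinearIndependent F ![v a, v a'] := by
    rw [LinearIndependent.pair_iff]
    intro s r hsr
    rw [hv, hv, ← ha', ← ha''] at hsr
    have c1 := congrArg (fun w => e.repr w a) hsr
    have c2 := congrArg (fun w => e.repr w a'') hsr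
    simp [haa', haa'.symm, h2, Ne.symm h2, ha'a'', ha'a''.symm] at c1 c2
    exact ⟨c1, c2⟩
  have h3 := hW a''
  rw [hW2 a a' hli] at h3
  obtain ⟨f, hf⟩ := Submodule.mem_span_range_iff_exists_fun F |>.1 h3
  rw [Fin.sum_univ_two] at hf
  change f 0 • v a + f 1 • v a' = v a'' at hf
  rw [hv, hv, hv, ← ha', ← ha''] at hf
  set d := σ a'' with hd
  have hd1 : d ≠ a' := fun e' => h2 (σ.injective e')
  have hd2 : d ≠ a'' := fun e' => ha'a'' (σ.injective e')
  by_cases hd3 : d = a
  · have c1 := congrArg (fun w => e.repr w a) hf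
    have c2 := congrArg (fun w => e.repr w a') hf
    have c3 := congrArg (fun w => e.repr w a'') hf
    rw [hd3] at c1 c2 c3
    simp [haa', haa'.symm, h2, Ne.symm h2, ha'a'', ha'a''.symm] at c1 c2 c3
    have k2 : (b : F) * e.repr u a'' = c a' * e.repr u a' := key a'
    have k3 : (b : F) * e.repr u a = c a'' * e.repr u a'' := by
      have := key a''
      rwa [← hd, hd3] at this
    refine hb3 (Units.val_eq_one.1 (mul_right_cancel₀ ha (?_ : _ = 1 * e.repr u a)))
    rw [one_mul, Units.val_pow_eq_pow_val]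
    linear_combination (b : F) ^ 2 * k3 + (b : F) * (c a'' : F) * k2 + (c a'' : F) * (c a' : F) * kb +
      e.repr u a * (-((c a : F) * (c a' : F) * c1) - (c a' : F) * c2 - c3)
  · have c1 := congrArg (fun w => e.repr w d) hf
    simp [hd1, hd2, hd3, Ne.symm hd1, Ne.symm hd2, Ne.symm hd3] at c1
    exact (c a'').ne_zero c1.symm

/-- a column with three zero coordinates -/
theorem MOver.three_zeros (h : MOver e M) {x : V ≃ₗ[F] V} (hx : x ∈ M) (hn : ¬ Mono e x) {t p q r : ι}
    (hpq : p ≠ q) (hpr : p ≠ r) (hqr : q ≠ r) (hp : e.repr (x (e t)) p = 0) (hq : e.repr (x (e t)) q = 0)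
    (hr : e.repr (x (e t)) r = 0) {b : Fˣ} (hb2 : b ^ 2 ≠ 1) (hb3 : b ^ 3 ≠ 1) : HasFix e M := by
  by_contra hfix
  obtain ⟨a, a', haa, hu, huq, ha⟩ := h.zero_pair hfix hx hn hpq hp hq hb2 hb3
  obtain ⟨a₂, a₂', -, hu2, hur, -⟩ := h.zero_pair hfix hx hn hpr hp hr hb2 hb3
  have hamem : a = a₂ ∨ a = a₂' := by
    by_contra hc
    push Not at hc
    exact ha (hu2 a hc.1 hc.2)
  have single : ∀ (i j : ι) (u' : V), x⁻¹ (e j) = u' → (∀ k, k ≠ i → e.repr u' k = 0) → False := by
    intro i j u' hu' hz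
    refine hfix (h.of_single hx hn (s := i) (p := j) (c := (e.repr u' i)⁻¹) ?_)
    have h1 := repr_eq_single (p := i) hz
    have h0 : e.repr u' i ≠ 0 := fun h0 => by
      rw [h0, zero_smul, ← hu'] at h1
      exact e.ne_zero j (x⁻¹.map_eq_zero_iff.1 h1)
    have e1 := congrArg x h1
    rw [map_smul, ← hu', apply_inv, hu'] at e1
    rw [e1, smul_smul, inv_mul_cancel₀ h0, one_smul]
  by_cases ha' : e.repr (x⁻¹ (e p)) a' = 0
  · exact single a p _ rfl fun k hk => (eq_or_ne k a').elim (fun e' => e' ▸ ha') fun hk' => hu k hk hk'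
  have hamem' : a' = a₂ ∨ a' = a₂' := by
    by_contra hc
    push Not at hc
    exact ha' (hu2 a' hc.1 hc.2)
  have hur' : ∀ i, i ≠ a → i ≠ a' → e.repr (x⁻¹ (e r)) i = 0 := fun i hi hi' => hur i
    (by rintro rfl; rcases hamem with rfl | rfl <;> rcases hamem' with rfl | rfl <;> simp_all)
    (by rintro rfl; rcases hamem with rfl | rfl <;> rcases hamem' with rfl | rfl <;> simp_all)
  have comb : ∀ j, (∀ i, i ≠ a → i ≠ a' → e.repr (x⁻¹ (e j)) i = 0) → j ≠ p →
      ∃ α β : F, x (e a') = α • e p + β • e j := by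
    intro j hj hjp
    set lam := e.repr (x⁻¹ (e j)) a / e.repr (x⁻¹ (e p)) a with hlam
    set w := x⁻¹ (e j) - lam • x⁻¹ (e p) with hw
    have h1 : w = e.repr w a' • e a' := repr_eq_single fun i hi => by
      rw [hw, map_sub, map_smul, Finsupp.sub_apply, Finsupp.smul_apply, smul_eq_mul]
      rcases eq_or_ne i a with rfl | hia
      · rw [hlam, div_mul_cancel₀ _ ha, sub_self]
      · rw [hj i hia hi, hu i hia hi, mul_zero, sub_zero]
    have h0 : e.repr w a' ≠ 0 := fun h0 => by
      rw [h0, zero_smul] at h1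
      have := congrArg x h1
      rw [hw, map_zero, map_sub, map_smul, apply_inv, apply_inv, sub_eq_zero] at this
      have := congrArg (fun v => e.repr v j) this
      simp [hjp.symm] at this
    refine ⟨-(lam / e.repr w a'), (e.repr w a')⁻¹, ?_⟩
    have e1 := congrArg x h1
    rw [map_smul] at e1
    conv_lhs => rw [← one_smul F (x (e a')), ← inv_mul_cancel₀ h0, ← smul_smul, ← e1]
    have e3 : x w = e j - lam • e p := by rw [hw, map_sub, map_smul, apply_inv, apply_inv]
    rw [e3, smul_sub, smul_smul, neg_smul, sub_eq_neg_add, inv_mul_eq_div]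
  obtain ⟨α, β, hq'⟩ := comb q huq hpq.symm
  obtain ⟨α', β', hr'⟩ := comb r hur' hpr.symm
  refine hfix (h.of_single hx hn (repr_eq_single (v := x (e a')) (p := p) fun i hi => ?_))
  rcases eq_or_ne i q with rfl | hiq
  · rw [hr']; simp [hpq, hqr.symm]
  · rw [hq']; simp [hi.symm, Ne.symm hiq]

/-- a column with two zero coordinates -/
theorem MOver.two_zeros (h : MOver e M) (h6 : 6 ≤ Fintype.card ι) {x : V ≃ₗ[F] V} (hx : x ∈ M) (hn : ¬ Mono e x) {t p q : ι}
    (hpq : p ≠ q) (hp : e.repr (x (e t)) p = 0) (hq : e.repr (x (e t)) q = 0) {b : Fˣ} (hb2 : b ^ 2 ≠ 1)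
    (hb3 : b ^ 3 ≠ 1) : HasFix e M := by
  by_contra hfix
  obtain ⟨a, a', -, hu, huq, ha⟩ := h.zero_pair hfix hx hn hpq hp hq hb2 hb3
  set lam := e.repr (x⁻¹ (e q)) a / e.repr (x⁻¹ (e p)) a with hlam
  set w := x⁻¹ (e q) - lam • x⁻¹ (e p) with hw
  have h1 : w = e.repr w a' • e a' := repr_eq_single fun i hi => by
    rw [hw, map_sub, map_smul, Finsupp.sub_apply, Finsupp.smul_apply, smul_eq_mul]
    rcases eq_or_ne i a with rfl | hia
    · rw [hlam, div_mul_cancel₀ _ ha, sub_self]
    · rw [huq i hia hi, hu i hia hi, mul_zero, sub_zero]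
  have hsupp : ∀ i, i ≠ p → i ≠ q → e.repr (x (e a')) i = 0 := fun i hip hiq => by
    have e1 := congrArg (fun v => e.repr (x v) i) h1
    simp only [hw, map_sub, map_smul, apply_inv, Finsupp.sub_apply, Finsupp.smul_apply, smul_eq_mul] at e1
    rw [Basis.repr_self, Basis.repr_self, Finsupp.single_eq_of_ne hiq, Finsupp.single_eq_of_ne hip, mul_zero,
      sub_zero, eq_comm, mul_eq_zero] at e1
    refine e1.resolve_left fun h0 => ?_
    have e2 := congrArg (fun v => e.repr v q) (congrArg x h1)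
    simp only [hw, map_sub, map_smul, apply_inv, Finsupp.sub_apply, Finsupp.smul_apply, smul_eq_mul] at e2
    rw [Basis.repr_self, Basis.repr_self, Finsupp.single_eq_same, Finsupp.single_eq_of_ne hpq.symm, mul_zero,
      sub_zero] at e2
    rw [h0, zero_mul] at e2
    exact one_ne_zero e2
  have h3 : 2 < (Finset.univ \ {p, q} : Finset ι).card := by
    rw [Finset.card_univ_diff, Finset.card_pair hpq]
    omega
  obtain ⟨i, j, k, hi, hj, hk, hij, hik, hjk⟩ := Finset.two_lt_card_iff.1 h3
  simp only [Finset.mem_sdiff, Finset.mem_univ, Finset.mem_insert, Finset.mem_singleton, not_or, true_and] at hi hj hk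
  exact hfix (h.three_zeros hx hn hij hik hjk (hsupp i hi.1 hi.2) (hsupp j hj.1 hj.2) (hsupp k hk.1 hk.2) hb2 hb3)

end Cfsg.Agent.Classical.Decomp
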