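import Cfsg.Agent.Classical.Decomp.Column

/-!
Columns without two zero coordinates: the alternating group on the coordinates finishes the search
for an element fixing a coordinate line.
-/

set_option autoImplicit false

namespace Cfsg.Agent.Classical.Decomp

open Module Cfsg.Agent.ClassicalMax

variable {F V : Type*} [Field F] [AddCommGroup V] [Module F V] {ι : Type*} [Fintype ι] [DecidableEq ι]
  {e : Basis ι F V} {M : Subgroup (V ≃ₗ[F] V)}

open scoped _root_.Classical in
/-- the coordinates of a vector, with the zero ones replaced by one -/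
noncomputable def scale (e : Basis ι F V) (w : V) (i : ι) : Fˣ :=
  if h : e.repr w i = 0 then 1 else Units.mk0 _ h

/-- the monomial element inducing `σ` on the coordinates scaled by `w` -/
noncomputable def lift (e : Basis ι F V) (w : V) (σ : Equiv.Perm ι) : V ≃ₗ[F] V :=
  monE e σ fun i => scale e w (σ i) / scale e w i

theorem scale_val {w : V} {i : ι} (h : e.repr w i ≠ 0) : (scale e w i : F) = e.repr w i := by
  rw [scale, dif_neg h]; rfl

theorem lift_mem (h : MOver e M) (w : V) {σ : Equiv.Perm ι} (hσ : σ ∈ alternatingGroup ι) : lift e w σ ∈ M := by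
  refine h.stab _ (mono_monE _ _) ?_
  rw [lift, det_monE, Equiv.Perm.mem_alternatingGroup.1 hσ, Units.val_one, Int.cast_one, one_mul, ← Units.coe_prod,
    Finset.prod_div_distrib, Equiv.prod_comp σ (scale e w), div_self', Units.val_one]

theorem lift_mul (w : V) (σ τ : Equiv.Perm ι) : lift e w (σ * τ) = lift e w σ * lift e w τ := by
  rw [lift, lift, lift, monE_mul]
  congr 1
  funext i
  rw [Equiv.Perm.mul_apply, div_mul_div_cancel]

theorem lift_fix {w : V} {σ : Equiv.Perm ι} (hz : ∀ i, e.repr w i = 0 → σ i = i) : lift e w σ w = w := by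
  refine e.repr.injective (Finsupp.ext fun j => ?_)
  obtain ⟨i, rfl⟩ := σ.surjective j
  rw [lift, repr_monE]
  by_cases h0 : e.repr w i = 0
  · rw [h0, mul_zero, hz i h0, h0]
  · have h1 : e.repr w (σ i) ≠ 0 := fun e1 => h0 (by
      have := hz (σ i) e1
      rwa [σ.injective this] at e1)
    rw [Units.val_div_eq_div_val, scale_val h0, scale_val h1, div_mul_cancel₀ _ h0]

theorem repr_lift (w : V) (σ : Equiv.Perm ι) (v : V) (i : ι) :
    e.repr (lift e w σ v) (σ i) / (scale e w (σ i) : F) = e.repr v i / (scale e w i : F) := by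
  rw [lift, repr_monE, Units.val_div_eq_div_val]
  field_simp

/-- a three-cycle as a product of two transpositions -/
theorem exists_cycle {a b c : ι} (hab : a ≠ b) (hac : a ≠ c) (hbc : b ≠ c) :
    ∃ σ ∈ alternatingGroup ι, σ a = b ∧ ∀ i, i ≠ a → i ≠ b → i ≠ c → σ i = i := by
  refine ⟨Equiv.swap b c * Equiv.swap a c, ?_, ?_, fun i hia hib hic => ?_⟩
  · rw [Equiv.Perm.mem_alternatingGroup, Equiv.Perm.sign_mul, Equiv.Perm.sign_swap hbc, Equiv.Perm.sign_swap hac]
    rfl
  · rw [Equiv.Perm.mul_apply, Equiv.swap_apply_left, Equiv.swap_apply_right]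
  · rw [Equiv.Perm.mul_apply, Equiv.swap_apply_of_ne_of_ne hia hic, Equiv.swap_apply_of_ne_of_ne hib hic]

/-- the column permutation induced by a coordinate permutation -/
theorem MOver.col_perm (h : MOver e M) (hfix : ¬ HasFix e M) {x : V ≃ₗ[F] V} (hx : x ∈ M) (t : ι)
    {σ : Equiv.Perm ι} (hσ : σ ∈ alternatingGroup ι) (hz : ∀ i, e.repr (x (e t)) i = 0 → σ i = i) :
    ∃ τ : Equiv.Perm ι, τ t = t ∧
      ∀ s, ∃ d : F, d ≠ 0 ∧ lift e (x (e t)) σ (x (e s)) = d • x (e (τ s)) := by
  set hh := lift e (x (e t)) σ with hhh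
  have hyM : x⁻¹ * hh * x ∈ M := mul_mem (mul_mem (inv_mem hx) (lift_mem h _ hσ)) hx
  have hyt : (x⁻¹ * hh * x) (e t) = (1 : F) • e t := by
    rw [LinearEquiv.mul_apply, LinearEquiv.mul_apply, hhh, lift_fix hz, inv_apply, one_smul]
  have hmono : Mono e (x⁻¹ * hh * x) := by
    by_contra hc
    exact hfix ⟨t, _, hyM, hc, 1, hyt⟩
  obtain ⟨τ, c, hτ⟩ := exists_monE hmono
  refine ⟨τ, ?_, fun s => ⟨c s, (c s).ne_zero, ?_⟩⟩
  · rw [hτ, monE_basis] at hyt
    have := congrArg (fun v => e.repr v (τ t)) hyt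
    by_contra hne
    simp [Ne.symm hne] at this
  · have := congrArg (fun y : V ≃ₗ[F] V => x (y (e s))) hτ
    simp only [LinearEquiv.mul_apply, apply_inv, monE_basis, map_smul] at this
    exact this

variable (hcols : ∀ x ∈ M, ¬ Mono e x → ∀ s p q, p ≠ q → e.repr (x (e s)) p = 0 → e.repr (x (e s)) q = 0 → False)

theorem col_index_unique {x : V ≃ₗ[F] V} {s s' : ι} {d : F} (h : x (e s) = d • x (e s')) : s = s' := by
  rw [← map_smul] at h
  have := congrArg (fun v => e.repr v s) (x.injective h)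
  by_contra hne
  simp [Ne.symm hne] at this

include hcols in
/-- no column is without zero coordinates -/
theorem MOver.no_full_column (h : MOver e M) (h6 : 6 ≤ Fintype.card ι) (hfix : ¬ HasFix e M) {x : V ≃ₗ[F] V} (hx : x ∈ M)
    (hn : ¬ Mono e x) (t : ι) : ∃ z, e.repr (x (e t)) z = 0 := by
  classical
  by_contra hc
  push Not at hc
  have hz : ∀ σ : Equiv.Perm ι, ∀ i, e.repr (x (e t)) i = 0 → σ i = i := fun σ i hi => absurd hi (hc i)
  choose τ hτt hτ using fun σ : alternatingGroup ι => h.col_perm hfix hx t σ.2 (hz σ)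
  have huniq : ∀ (σ : alternatingGroup ι) (s s' : ι) (d : F), lift e (x (e t)) σ (x (e s)) = d • x (e s') →
      d ≠ 0 → τ σ s = s' := fun σ s s' d he hd => by
    obtain ⟨d₁, hd₁, he₁⟩ := hτ σ s
    rw [he₁] at he
    refine col_index_unique (e := e) (x := x) (d := d₁⁻¹ * d) ?_
    rw [← smul_smul, ← he, smul_smul, inv_mul_cancel₀ hd₁, one_smul]
  have hmul : ∀ σ σ', τ (σ * σ') = τ σ * τ σ' := fun σ σ' => Equiv.ext fun s => by
    obtain ⟨d', hd', he'⟩ := hτ σ' s
    obtain ⟨d, hd, he⟩ := hτ σ (τ σ' s)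
    refine huniq _ s _ (d' * d) ?_ (mul_ne_zero hd' hd)
    rw [Subgroup.coe_mul, lift_mul, LinearEquiv.mul_apply, he', map_smul, he, smul_smul]
    rfl
  let f : alternatingGroup ι →* MulAction.stabilizer (Equiv.Perm ι) t :=
    MonoidHom.mk' (fun σ => ⟨τ σ, hτt σ⟩) fun σ σ' => Subtype.ext (hmul σ σ')
  have h5 : 5 ≤ Nat.card ι := by rw [Nat.card_eq_fintype_card]; exact le_trans (by norm_num) h6
  haveI := alternatingGroup.isSimpleGroup h5
  have hker : f.ker = ⊤ := by
    refine (f.normal_ker.eq_bot_or_eq_top).resolve_left fun hb => ?_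
    have h1 := Nat.card_le_card_of_injective f ((MonoidHom.ker_eq_bot_iff f).1 hb)
    haveI : Nontrivial ι := Fintype.one_lt_card_iff_nontrivial.1 (by have := h6; omega)
    have h2 := two_mul_nat_card_alternatingGroup (α := ι)
    have h3 := (MulAction.stabilizer (Equiv.Perm ι) t).index_mul_card
    rw [MulAction.index_stabilizer_of_transitive (Equiv.Perm ι) t] at h3
    have h4 : 0 < Nat.card (MulAction.stabilizer (Equiv.Perm ι) t) := Nat.card_pos
    have h6 : Nat.card ι * Nat.card (MulAction.stabilizer (Equiv.Perm ι) t) ≤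
        2 * Nat.card (MulAction.stabilizer (Equiv.Perm ι) t) := by
      rw [h3, ← h2]; omega
    have := Nat.le_of_mul_le_mul_right h6 h4
    omega
  obtain ⟨s, hst⟩ : ∃ s, s ≠ t := Fintype.exists_ne_of_one_lt_card (by have := h6; omega) t
  set fv : ι → F := fun i => e.repr (x (e s)) i / (scale e (x (e t)) i : F) with hfv
  have hconst : ∀ a b, fv a = fv b := fun a b => by
    rcases eq_or_ne a b with rfl | hab
    · rfl
    obtain ⟨c, hc'⟩ : ∃ c, c ∉ ({a, b} : Finset ι) := by
      obtain ⟨c, -, hc⟩ := Finset.exists_mem_notMem_of_card_lt_card (s := ({a, b} : Finset ι)) (t := Finset.univ)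
        (Finset.card_le_two.trans_lt (by rw [Finset.card_univ]; have := h6; omega))
      exact ⟨c, hc⟩
    simp only [Finset.mem_insert, Finset.mem_singleton, not_or] at hc'
    obtain ⟨σ, hσ, hσa, hσo⟩ := exists_cycle hab (Ne.symm hc'.1) (Ne.symm hc'.2)
    obtain ⟨d, -, hd⟩ := hτ ⟨σ, hσ⟩ s
    have hτ1 : τ ⟨σ, hσ⟩ = 1 := congrArg Subtype.val ((hker ▸ Subgroup.mem_top _ : (⟨σ, hσ⟩ : alternatingGroup ι) ∈ f.ker))
    rw [hτ1, Equiv.Perm.one_apply] at hd
    have key : ∀ i, d * fv (σ i) = fv i := fun i => by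
      rw [hfv]
      dsimp only
      rw [← repr_lift (x (e t)) σ (x (e s)) i, show lift e (x (e t)) σ (x (e s)) = d • x (e s) from hd, map_smul,
        Finsupp.smul_apply, smul_eq_mul, mul_div_assoc]
    obtain ⟨i, hi, hi0⟩ : ∃ i, i ∉ ({a, b, c} : Finset ι) ∧ e.repr (x (e s)) i ≠ 0 := by
      have hcard : 2 ≤ (Finset.univ \ ({a, b, c} : Finset ι)).card := by
        have := Finset.le_card_sdiff ({a, b, c} : Finset ι) Finset.univ
        have := Finset.card_le_three (a := a) (b := b) (c := c)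
        have := h6
        rw [Finset.card_univ] at *
        omega
      obtain ⟨i, hi, j, hj, hij⟩ := Finset.one_lt_card.1 hcard
      rw [Finset.mem_sdiff] at hi hj
      by_cases h0 : e.repr (x (e s)) i = 0
      · exact ⟨j, hj.2, fun h1 => hcols x hx hn s i j hij h0 h1⟩
      · exact ⟨i, hi.2, h0⟩
    simp only [Finset.mem_insert, Finset.mem_singleton, not_or] at hi
    have hd1 : d = 1 := by
      have := key i
      rw [hσo i hi.1 hi.2.1 hi.2.2] at this
      exact (mul_eq_right₀ (div_ne_zero hi0 (Units.ne_zero _))).1 this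
    have := key a
    rw [hσa, hd1, one_mul] at this
    exact this.symm
  refine hst (col_index_unique (e := e) (x := x) (d := fv t) ?_)
  refine e.repr.injective (Finsupp.ext fun i => ?_)
  rw [map_smul, Finsupp.smul_apply, smul_eq_mul, hconst t i]
  simp only [hfv, scale_val (hc i)]
  rw [div_mul_cancel₀ _ (hc i)]

set_option maxHeartbeats 1000000 in
include hcols in
/-- no non-monomial element at all, unless some element fixes a line -/
theorem MOver.hasFix_of_cols (h : MOver e M) (h6 : 6 ≤ Fintype.card ι) {x : V ≃ₗ[F] V} (hx : x ∈ M) (hn : ¬ Mono e x) {b : Fˣ}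
    (hb2 : b ^ 2 ≠ 1) (hb3 : b ^ 3 ≠ 1) : HasFix e M := by
  classical
  by_contra hfix
  have hone : ∀ y ∈ M, ¬ Mono e y → ∀ s, ∃! p, e.repr (y (e s)) p = 0 := fun y hy hyn s => by
    obtain ⟨z, hz⟩ := h.no_full_column hcols h6 hfix hy hyn s
    exact ⟨z, hz, fun q hq => by
      by_contra hne
      exact hcols y hy hyn s q z hne hq hz⟩
  haveI : Nonempty ι := Fintype.card_pos_iff.1 (by have := h6; omega)
  obtain ⟨t⟩ := (inferInstance : Nonempty ι)
  obtain ⟨z, hz, hzu⟩ := hone x hx hn t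
  dsimp only at hz hzu
  set w := x (e t) with hw
  obtain ⟨s₀, hs₀⟩ : ∃ s, e.repr (x (e s)) z ≠ 0 := by
    by_contra hc
    push Not at hc
    have : ∀ v, e.repr (x v) z = 0 := fun v => by
      rw [← e.sum_repr v, map_sum, map_sum, Finsupp.coe_finset_sum, Finset.sum_apply]
      exact Finset.sum_eq_zero fun i _ => by rw [map_smul, map_smul, Finsupp.smul_apply, hc, smul_zero]
    have e1 := this (x⁻¹ (e z))
    rw [apply_inv, Basis.repr_self, Finsupp.single_eq_same] at e1
    exact one_ne_zero e1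
  obtain ⟨p₀, hp₀, hp₀u⟩ := hone x hx hn s₀
  dsimp only at hp₀ hp₀u
  have hp₀z : p₀ ≠ z := fun e' => hs₀ (e' ▸ hp₀)
  set S := Finset.univ.erase z with hS
  have hScard : S.card = Fintype.card ι - 1 := by rw [Finset.card_erase_of_mem (Finset.mem_univ z), Finset.card_univ]
  have hW : ∀ i, i ≠ z → (scale e w i : F) = e.repr w i := fun i hi => scale_val fun h0 => hi (hzu i h0)
  have hWz : scale e w z = 1 := dif_pos hz
  set fv : V → ι → F := fun v i => e.repr v i / (scale e w i : F) with hfv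
  have pick : ∀ p a, p ≠ z → a ≠ z → p ≠ a → ∃ c, c ≠ z ∧ c ≠ p ∧ c ≠ a := fun p a _ _ _ => by
    obtain ⟨c, -, hc⟩ := Finset.exists_mem_notMem_of_card_lt_card (s := ({z, p, a} : Finset ι)) (t := Finset.univ)
      (Finset.card_le_three.trans_lt (by rw [Finset.card_univ]; have := h6; omega))
    simp only [Finset.mem_insert, Finset.mem_singleton, not_or] at hc
    exact ⟨c, hc.1, hc.2.1, hc.2.2⟩
  -- moving the zero of a column
  have move : ∀ σ ∈ alternatingGroup ι, σ z = z → ∀ s, e.repr (x (e s)) z ≠ 0 →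
      ∃ s' d, d ≠ 0 ∧ s' ≠ t ∧ e.repr (x (e s')) z ≠ 0 ∧ lift e w σ (x (e s)) = d • x (e s') ∧
        ∀ i, d * fv (x (e s')) (σ i) = fv (x (e s)) i := by
    intro σ hσ hσz s hs
    obtain ⟨τ, -, hτ⟩ := h.col_perm hfix hx t hσ (fun i hi => by rw [hzu i hi, hσz])
    obtain ⟨d, hd, he⟩ := hτ s
    have key : ∀ i, d * fv (x (e (τ s))) (σ i) = fv (x (e s)) i := fun i => by
      rw [hfv]; dsimp only
      rw [← repr_lift w σ (x (e s)) i, he, map_smul, Finsupp.smul_apply, smul_eq_mul, mul_div_assoc]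
    have hz' : e.repr (x (e (τ s))) z ≠ 0 := fun h0 => hs (by
      have := key z
      rw [hσz, hfv] at this
      simpa [h0, hWz] using this.symm)
    exact ⟨τ s, d, hd, fun e' => hz' (e' ▸ hz), hz', he, key⟩
  have hex : ∀ p ∈ S, ∃ s, s ≠ t ∧ e.repr (x (e s)) z ≠ 0 ∧ e.repr (x (e s)) p = 0 ∧
      ∃ d : F, d ≠ 0 ∧ d * fv (x (e s)) z = fv (x (e s₀)) z ∧
        ∀ i, i ≠ z → ∃ j, j ≠ z ∧ (i = p ↔ j = p₀) ∧ d * fv (x (e s)) i = fv (x (e s₀)) j := by
    intro p hp
    have hpz : p ≠ z := (Finset.mem_erase.1 hp).1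
    obtain ⟨σ, hσ, hσp, hσz⟩ : ∃ σ ∈ alternatingGroup ι, σ p₀ = p ∧ σ z = z := by
      rcases eq_or_ne p p₀ with rfl | hne
      · exact ⟨1, one_mem _, rfl, rfl⟩
      · obtain ⟨c, hcz, hcp, hca⟩ := pick p p₀ hpz hp₀z hne
        obtain ⟨σ, hσ, h1, h2⟩ := exists_cycle hne.symm (Ne.symm hca) (Ne.symm hcp)
        exact ⟨σ, hσ, h1, h2 z hp₀z.symm hpz.symm (Ne.symm hcz)⟩
    obtain ⟨s, d, hd, hst, hsz, -, key⟩ := move σ hσ hσz s₀ hs₀
    refine ⟨s, hst, hsz, ?_, d, hd, ?_, fun i hi => ⟨σ.symm i, ?_, ?_, ?_⟩⟩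
    · have := key p₀
      rw [hσp, hfv] at this
      dsimp only at this
      rw [hp₀, zero_div, mul_eq_zero, div_eq_zero_iff] at this
      exact ((this.resolve_left hd).resolve_right (Units.ne_zero _))
    · have := key z; rwa [hσz] at this
    · exact fun e' => hi (by rw [← hσz, ← e', Equiv.apply_symm_apply])
    · rw [Equiv.symm_apply_eq, hσp]
    · have := key (σ.symm i); rwa [Equiv.apply_symm_apply] at this
  choose! col hcolt hcolz hcolp dd hdd hddz hddi using hex
  have hcol_inj : Set.InjOn col S := fun p hp p' hp' e' => (hone x hx hn (col p)).unique (hcolp p hp) (e' ▸ hcolp p' hp')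
  have hcol_surj : ∀ s, s ≠ t → ∃ p ∈ S, col p = s := fun s hs => by
    have := Finset.surjOn_of_injOn_of_card_le col (s := S) (t := Finset.univ.erase t)
      (fun p hp => Finset.mem_erase.2 ⟨hcolt p hp, Finset.mem_univ _⟩) hcol_inj
      (by rw [Finset.card_erase_of_mem (Finset.mem_univ t), Finset.card_univ, hScard])
    obtain ⟨p, hp, e'⟩ := this (show s ∈ (Finset.univ.erase t : Finset ι) from Finset.mem_erase.2 ⟨hs, Finset.mem_univ _⟩)
    exact ⟨p, hp, e'⟩
  -- outside its zero and `z` the column of `p₀` is constant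
  have hconst : ∀ a b', a ≠ z → a ≠ p₀ → b' ≠ z → b' ≠ p₀ → fv (x (e s₀)) a = fv (x (e s₀)) b' := by
    intro a b' haz hap hbz hbp
    rcases eq_or_ne a b' with rfl | hab
    · rfl
    obtain ⟨c, hc⟩ := Finset.exists_mem_notMem_of_card_lt_card (s := ({z, p₀, a, b'} : Finset ι)) (t := Finset.univ)
      (Finset.card_le_four.trans_lt (by rw [Finset.card_univ]; have := h6; omega))
    simp only [Finset.mem_insert, Finset.mem_singleton, not_or] at hc
    obtain ⟨-, hcz, hcp, hca, hcb⟩ := hc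
    obtain ⟨σ, hσ, hσa, hσo⟩ := exists_cycle hab (Ne.symm hca) (Ne.symm hcb)
    obtain ⟨s, d, hd, hst, hsz, -, key⟩ := move σ hσ (hσo z haz.symm hbz.symm (Ne.symm hcz)) s₀ hs₀
    have hsp : e.repr (x (e s)) p₀ = 0 := by
      have := key p₀
      rw [hσo p₀ hap.symm hbp.symm (Ne.symm hcp), hfv] at this
      dsimp only at this
      rw [hp₀, zero_div, mul_eq_zero, div_eq_zero_iff] at this
      exact ((this.resolve_left hd).resolve_right (Units.ne_zero _))
    have hs : s = s₀ := by
      obtain ⟨p, hp, rfl⟩ := hcol_surj s hst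
      have : p = p₀ := (hone x hx hn (col p)).unique (hcolp p hp) hsp
      subst this
      obtain ⟨p', hp', e'⟩ := hcol_surj s₀ (fun e' => hs₀ (e' ▸ hz))
      have : p' = p := hp₀u p' (e' ▸ hcolp p' hp')
      rw [← e', this]
    subst hs
    have hd1 : d = 1 := by
      have := key z
      rw [hσo z haz.symm hbz.symm (Ne.symm hcz)] at this
      refine (mul_eq_right₀ ?_).1 this
      exact div_ne_zero hs₀ (Units.ne_zero _)
    have := key a
    rw [hσa, hd1, one_mul] at this
    exact this.symm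
  obtain ⟨a₀, haz, hap⟩ : ∃ a, a ≠ z ∧ a ≠ p₀ := by
    obtain ⟨a, -, ha⟩ := Finset.exists_mem_notMem_of_card_lt_card (s := ({z, p₀} : Finset ι)) (t := Finset.univ)
      (Finset.card_le_two.trans_lt (by rw [Finset.card_univ]; have := h6; omega))
    simp only [Finset.mem_insert, Finset.mem_singleton, not_or] at ha
    exact ⟨a, ha.1, ha.2⟩
  set c₀ := fv (x (e s₀)) a₀ with hc₀
  have hc₀0 : c₀ ≠ 0 := div_ne_zero (fun h0 => hap (hp₀u a₀ h0)) (Units.ne_zero _)
  set β := fv (x (e s₀)) z / c₀ with hβ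
  let r : ι → V := fun p => (dd p / c₀) • e (col p)
  have hr : ∀ p ∈ S, x (r p) = w - e.repr w p • e p + β • e z := by
    intro p hp
    have hpz : p ≠ z := (Finset.mem_erase.1 hp).1
    refine e.repr.injective (Finsupp.ext fun i => ?_)
    simp only [r, map_smul, map_add, map_sub, Finsupp.smul_apply, Finsupp.add_apply, Finsupp.sub_apply, smul_eq_mul,
      Basis.repr_self]
    rcases eq_or_ne i z with rfl | hiz
    · rw [hz, Finsupp.single_eq_of_ne hpz.symm, Finsupp.single_eq_same, mul_zero, sub_zero, zero_add, mul_one, hβ,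
        ← hddz p hp, hfv]
      simp only [hWz, Units.val_one, div_one]
      ring
    obtain ⟨j, hjz, hjp, hj⟩ := hddi p hp i hiz
    rw [Finsupp.single_eq_of_ne hiz (b := (1 : F)), mul_zero, add_zero]
    rcases eq_or_ne i p with rfl | hip
    · rw [Finsupp.single_eq_same, mul_one, sub_self, hcolp i hp, mul_zero]
    · rw [Finsupp.single_eq_of_ne hip, mul_zero, sub_zero]
      rw [hconst j a₀ hjz (fun e' => hip (hjp.2 e')) haz hap, ← hc₀] at hj
      have e1 : dd p * e.repr (x (e (col p))) i = c₀ * e.repr w i := by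
        rw [← hj, hfv]
        dsimp only
        rw [hW i hiz]
        rw [div_eq_mul_inv, mul_assoc, mul_assoc, inv_mul_cancel₀ (fun h0 => hiz (hzu i h0)), mul_one]
      field_simp
      linear_combination e1
  set k : F := (S.card : F) with hk
  have hsumrepr : ∑ p ∈ S, e.repr w p • e p = w := by
    conv_rhs => rw [← e.sum_repr w]
    exact Finset.sum_erase _ (by rw [hz, zero_smul])
  have hXR : x (∑ p ∈ S, r p) = k • w - w + (k * β) • e z := by
    rw [map_sum, Finset.sum_congr rfl hr, Finset.sum_add_distrib, Finset.sum_sub_distrib, hsumrepr,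
      Finset.sum_const, Finset.sum_const, ← Nat.cast_smul_eq_nsmul F, ← Nat.cast_smul_eq_nsmul F, smul_smul]
  have hrt : ∀ p ∈ S, e.repr (r p) t = 0 := fun p hp => by simp [r, (hcolt p hp).symm]
  have hk0 : k ≠ 0 := fun hk0 => by
    have e1 : x (∑ p ∈ S, r p + e t) = 0 := by
      rw [map_add, hXR, ← hw, hk0, zero_smul, zero_mul, zero_smul, zero_sub, add_zero, neg_add_cancel]
    have e2 := congrArg (fun v => e.repr v t) (x.map_eq_zero_iff.1 e1)
    simp [Finset.sum_eq_zero hrt] at e2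
  -- the column of `x⁻¹ δ x`
  have hYcalc : ∀ d : ι → Fˣ, d z = 1 → ∀ K, K = ∑ p ∈ S, ((d p : F) - 1) →
      (x⁻¹ * monE e 1 d * x) (e t) = (1 + K / k) • e t + ∑ p ∈ S, (K / k - ((d p : F) - 1)) • r p := by
    intro d hdz K hK
    rw [LinearEquiv.mul_apply, LinearEquiv.mul_apply, ← hw]
    apply x.injective
    rw [apply_inv, map_add, map_sum, map_smul, ← hw]
    have e1 : monE e 1 d w = w + ∑ p ∈ S, (((d p : F) - 1) * e.repr w p) • e p := by
      conv_lhs => rw [← hsumrepr, map_sum]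
      conv_rhs => lhs; rw [← hsumrepr]
      rw [← Finset.sum_add_distrib]
      refine Finset.sum_congr rfl fun p _ => ?_
      rw [map_smul, monE_basis, Equiv.Perm.one_apply, smul_smul, ← add_smul]
      ring_nf
    have e2 : ∀ p ∈ S, x ((K / k - ((d p : F) - 1)) • r p) =
        (K / k - ((d p : F) - 1)) • (w + β • e z) - (K / k) • (e.repr w p • e p) + (((d p : F) - 1) * e.repr w p) • e p := by
      intro p hp
      rw [map_smul, hr p hp]
      module
    rw [e1, Finset.sum_congr rfl e2, Finset.sum_add_distrib, Finset.sum_sub_distrib, ← Finset.sum_smul,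
      ← Finset.smul_sum, hsumrepr, Finset.sum_sub_distrib, Finset.sum_const, ← hK, nsmul_eq_mul, ← hk,
      mul_div_cancel₀ _ hk0, sub_self, zero_smul, zero_sub]
    module
  have hY : ∀ d : ι → Fˣ, d z = 1 → LinearMap.det (monE e 1 d).toLinearMap = 1 →
      ∀ K, K = ∑ p ∈ S, ((d p : F) - 1) → K ≠ 0 → ∀ a b', a ∈ S → b' ∈ S → a ≠ b' → d a = 1 → d b' = 1 →
        1 + K / k ≠ 0 → ∃! p, p ∈ S ∧ K / k - ((d p : F) - 1) = 0 := by
    intro d hdz hdet K hK hK0 a b' ha hb hab hda hdb ht0
    have hy : x⁻¹ * monE e 1 d * x ∈ M := mul_mem (mul_mem (inv_mem hx) (h.stab _ (mono_monE _ _) hdet)) hx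
    have coord : ∀ p ∈ S, e.repr ((x⁻¹ * monE e 1 d * x) (e t)) (col p) =
        (K / k - ((d p : F) - 1)) * (dd p / c₀) := fun p hp => by
      rw [hYcalc d hdz K hK, map_add, Finsupp.add_apply, map_sum, Finsupp.coe_finset_sum, Finset.sum_apply,
        Finset.sum_eq_single p]
      · simp [r, Ne.symm (hcolt p hp)]
      · intro p' hp' hne
        simp [r, Ne.symm (fun e' : col p' = col p => hne (hcol_inj hp' hp e'))]
      · exact fun h' => absurd hp h'
    have coordt : e.repr ((x⁻¹ * monE e 1 d * x) (e t)) t = 1 + K / k := by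
      rw [hYcalc d hdz K hK, map_add, Finsupp.add_apply, map_sum, Finsupp.coe_finset_sum, Finset.sum_apply,
        Finset.sum_eq_zero fun p hp => ?_]
      · simp
      · simp [r, (hcolt p hp).symm]
    have hcoef : ∀ p ∈ S, dd p / c₀ ≠ 0 := fun p hp => div_ne_zero (hdd p hp) hc₀0
    have nz : ∀ p ∈ S, d p = 1 → e.repr ((x⁻¹ * monE e 1 d * x) (e t)) (col p) ≠ 0 := fun p hp h1 => by
      rw [coord p hp, h1, Units.val_one, sub_self, sub_zero]
      exact mul_ne_zero (div_ne_zero hK0 hk0) (hcoef p hp)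
    have hyn : ¬ Mono e (x⁻¹ * monE e 1 d * x) := fun hm => by
      obtain ⟨j, c, hj⟩ := hm t
      have n1 := nz a ha hda
      have n2 := nz b' hb hdb
      rw [hj, map_smul, Finsupp.smul_apply, Basis.repr_self, Finsupp.single_apply] at n1 n2
      have e1 : j = col a := by by_contra h'; rw [if_neg h', smul_zero] at n1; exact n1 rfl
      have e2 : j = col b' := by by_contra h'; rw [if_neg h', smul_zero] at n2; exact n2 rfl
      exact hab (hcol_inj ha hb (e1.symm.trans e2))
    obtain ⟨i, hi, hiu⟩ := hone _ hy hyn t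
    dsimp only at hi hiu
    have hit : i ≠ t := fun e' => ht0 (by subst e'; exact coordt.symm.trans hi)
    obtain ⟨p, hp, rfl⟩ := hcol_surj i hit
    rw [coord p hp] at hi
    refine ⟨p, ⟨hp, (mul_eq_zero.1 hi).resolve_right (hcoef p hp)⟩, fun p' hp' => hcol_inj hp'.1 hp (hiu _ ?_)⟩
    rw [coord p' hp'.1, hp'.2, zero_mul]
  have h4 : 5 ≤ S.card := by have := h6; omega
  by_cases h2 : (2 : F) = 0
  · obtain ⟨p, hp, q, hq, a, ha, b', hb', hpq, hpa, hpb, hqa, hqb, hab⟩ : ∃ p ∈ S, ∃ q ∈ S, ∃ a ∈ S, ∃ b' ∈ S,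
        p ≠ q ∧ p ≠ a ∧ p ≠ b' ∧ q ≠ a ∧ q ≠ b' ∧ a ≠ b' := by
      obtain ⟨U, hU, hU4⟩ := Finset.exists_subset_card_eq (show 4 ≤ S.card by omega)
      obtain ⟨p, q, a, b', h1, h2', h3, h4', h5, h6, rfl⟩ := Finset.card_eq_four.1 hU4
      simp only [Finset.insert_subset_iff, Finset.singleton_subset_iff] at hU
      exact ⟨p, hU.1, q, hU.2.1, a, hU.2.2.1, b', hU.2.2.2, h1, h2', h3, h4', h5, h6⟩
    have hk1 : k = 1 := by
      rw [hk, ← Nat.div_add_mod S.card 2] at hk0 ⊢
      rw [Nat.cast_add, Nat.cast_mul, Nat.cast_two, h2, zero_mul, zero_add] at hk0 ⊢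
      rcases Nat.mod_two_eq_zero_or_one S.card with h' | h' <;> rw [h'] at hk0 ⊢
      · exact absurd Nat.cast_zero hk0
      · exact Nat.cast_one
    have hbne : (b : F) ≠ 0 := b.ne_zero
    have hneg : ∀ a : F, -a = a := fun a => by linear_combination (-a) * h2
    have hpz : z ≠ p := fun e' => (Finset.mem_erase.1 hp).1 e'.symm
    have hqz : z ≠ q := fun e' => (Finset.mem_erase.1 hq).1 e'.symm
    have hK : ((b : F) - 1) + (((b⁻¹ : Fˣ) : F) - 1) = ∑ i ∈ S, ((dpair p q b i : F) - 1) := by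
      rw [Finset.sum_eq_add p q hpq (fun c _ hc => by rw [dpair_other hc.1 hc.2, Units.val_one, sub_self])
        (fun h' => absurd hp h') (fun h' => absurd hq h'), dpair_left, dpair_right hpq]
    have eb2 : (b : F) ^ 2 ≠ 1 := fun e' => hb2 (Units.ext (by rw [Units.val_pow_eq_pow_val, e', Units.val_one]))
    have eb3 : (b : F) ^ 3 ≠ 1 := fun e' => hb3 (Units.ext (by rw [Units.val_pow_eq_pow_val, e', Units.val_one]))
    rw [Units.val_inv_eq_inv_val] at hK
    obtain ⟨i, ⟨hiS, hi⟩, -⟩ := hY (dpair p q b) (dpair_other hpz hqz b) (det_dpair hpq b) _ hK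
      (fun e' => eb2 (by field_simp at e'; linear_combination e' + ((b : F) - 1) * h2)) a b' ha hb' hab
      (dpair_other hpa.symm hqa.symm b) (dpair_other hpb.symm hqb.symm b)
      (by rw [hk1, div_one]; intro e'; exact eb3 (by field_simp at e'; linear_combination ((b : F) - 1) * e' + ((b : F) ^ 2 - b) * h2))
    rw [hk1, div_one] at hi
    rcases eq_or_ne i p with rfl | hip
    · rw [dpair_left, add_sub_cancel_left, sub_eq_zero, inv_eq_one] at hi
      exact eb2 (by rw [hi, one_pow])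
    rcases eq_or_ne i q with rfl | hiq
    · rw [dpair_right hpq, Units.val_inv_eq_inv_val, add_sub_cancel_right, sub_eq_zero] at hi
      exact eb2 (by rw [hi, one_pow])
    · rw [dpair_other hip hiq, Units.val_one, sub_self, sub_zero] at hi
      exact eb2 (by field_simp at hi; linear_combination hi + ((b : F) - 1) * h2)
  · -- minus one on two or four coordinates
    obtain ⟨u, hu4, hbig, hukt⟩ : ∃ u : ℕ, (u = 2 ∨ u = 4) ∧ u + 2 ≤ S.card ∧ (k ≠ ((2 * u : ℕ) : F)) := by
      by_cases hk4 : k = 4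
      · -- five summands cannot add up to four
        have h6S : 6 ≤ S.card := by
          by_contra hlt
          rw [hk, show S.card = 5 by omega] at hk4
          exact one_ne_zero (α := F) (by push_cast at hk4; linear_combination hk4)
        refine ⟨4, Or.inr rfl, h6S, fun e' => ?_⟩
        rw [hk4] at e'; push_cast at e'
        exact mul_ne_zero h2 h2 (by linear_combination -e')
      · exact ⟨2, Or.inl rfl, by omega, fun e' => hk4 (by rw [e']; norm_num)⟩
    obtain ⟨U, hUS, hU⟩ := Finset.exists_subset_card_eq (s := S) (n := u) (by rcases hu4 with rfl | rfl <;> omega)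
    let d : ι → Fˣ := fun i => if i ∈ U then -1 else 1
    have hzU : z ∉ U := fun h' => (Finset.mem_erase.1 (hUS h')).1 rfl
    have hK : -2 * (u : F) = ∑ p ∈ S, ((d p : F) - 1) := by
      rw [← Finset.sum_subset hUS fun i _ hi => by simp [d, hi], Finset.sum_congr rfl
        (fun i hi => show (d i : F) - 1 = -2 by simp [d, hi]; ring), Finset.sum_const, hU, nsmul_eq_mul, mul_comm]
    have hu0F : (u : F) ≠ 0 := by
      rcases hu4 with rfl | rfl <;> push_cast
      exacts [h2, fun e' => mul_ne_zero h2 h2 (by linear_combination e')]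
    have hdet : LinearMap.det (monE e 1 d).toLinearMap = 1 := by
      rw [det_monE, Equiv.Perm.sign_one, Units.val_one, Int.cast_one, one_mul,
        Finset.prod_congr rfl (fun i _ => show (d i : F) = if i ∈ U then -1 else 1 by simp only [d, apply_ite Units.val, Units.val_neg, Units.val_one]),
        Fintype.prod_ite_mem, Finset.prod_const, hU]
      rcases hu4 with rfl | rfl <;> norm_num
    obtain ⟨a, ha, b', hb', hab⟩ := Finset.one_lt_card.1 (show 1 < (S \ U).card by
      rw [Finset.card_sdiff_of_subset hUS]; omega)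
    rw [Finset.mem_sdiff] at ha hb'
    obtain ⟨p, ⟨hpS, hp⟩, hpu⟩ := hY d (if_neg hzU) hdet _ hK (mul_ne_zero (neg_ne_zero.2 h2) hu0F) a b' ha.1 hb'.1 hab
      (if_neg ha.2) (if_neg hb'.2) (fun e' => hukt (by push_cast; field_simp at e'; linear_combination e'))
    by_cases hpU : p ∈ U
    · obtain ⟨q, hq, hqp⟩ := Finset.exists_mem_ne (by rw [hU]; rcases hu4 with rfl | rfl <;> norm_num) p
      refine hqp (hpu q ⟨hUS hq, ?_⟩)
      rw [← hp]; simp [d, hpU, hq]
    · simp only [d, if_neg hpU, Units.val_one, sub_self, sub_zero, div_eq_zero_iff, hk0, or_false] at hp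
      exact mul_ne_zero (neg_ne_zero.2 h2) hu0F hp

end Cfsg.Agent.Classical.Decomp
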