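import Cfsg.Agent.Classical.Decomp.Monomial

/-!
The stabiliser of a decomposition into subspaces of equal dimension is maximal in the special linear group.
-/

set_option autoImplicit false

namespace Cfsg.Agent.Classical.Decomp

open Module Cfsg.Agent.ClassicalMax

variable {F : Type*} [Field F] {κ : Type} [Fintype κ] [DecidableEq κ] {t : ℕ} {D : Fin t → Submodule F (κ → F)}

theorem mem_stab_iff (g : Matrix.GeneralLinearGroup κ F) :
    g ∈ Cfsg.Geo.decompositionStabilizer D ↔ Permutes D (glEquiv κ F g) := by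
  have e : (glEquiv κ F g).toLinearMap = Matrix.toLin' (g : Matrix κ κ F) := LinearMap.ext fun v => glEquiv_apply g v
  rw [Permutes, e]
  rfl

/-- maximality from the production of all transvections, keeping track of determinants -/
theorem isMaximalIn_of (hproper : ∃ (φ : Dual F (κ → F)) (v : κ → F), φ v = 0 ∧ ¬ Permutes D (tvec φ v))
    (h : ∀ M : Subgroup ((κ → F) ≃ₗ[F] (κ → F)),
      (∀ g, Permutes D g → LinearMap.det g.toLinearMap = 1 → g ∈ M) →
      (∀ g ∈ M, LinearMap.det g.toLinearMap = 1) → (∃ g ∈ M, ¬ Permutes D g) →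
      ∀ (φ : Dual F (κ → F)) (v : κ → F), φ v = 0 → tvec φ v ∈ M) :
    Cfsg.Geo.IsMaximalIn (Cfsg.Geo.specialLinear κ F)
      (Cfsg.Geo.decompositionStabilizer D ⊓ Cfsg.Geo.specialLinear κ F) := by
  constructor
  · refine lt_of_le_of_ne inf_le_right fun heq => ?_
    obtain ⟨φ, v, -, hP⟩ := hproper
    have h1 := (mem_stab_iff (D := D) _).1 (heq.ge (tvec_mem_specialLinear φ v)).1
    rw [MulEquiv.apply_symm_apply] at h1
    exact hP h1
  · intro M hM1 hM2
    by_cases hle : M ≤ Cfsg.Geo.decompositionStabilizer D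
    · exact Or.inl (le_antisymm (le_inf hle hM2) hM1)
    refine Or.inr (le_antisymm hM2 (specialLinear_le M fun φ v hv => ?_))
    obtain ⟨g, hg, hgK⟩ := SetLike.not_le_iff_exists.1 hle
    have hstab : ∀ x : (κ → F) ≃ₗ[F] (κ → F), Permutes D x → LinearMap.det x.toLinearMap = 1 →
        x ∈ M.map (glEquiv κ F).toMonoidHom := fun x hx hdet => by
      refine ⟨(glEquiv κ F).symm x, hM1 ⟨(mem_stab_iff _).2 ?_, (mem_specialLinear_iff _).2 ?_⟩, by simp⟩
      · rwa [MulEquiv.apply_symm_apply]
      · rwa [MulEquiv.apply_symm_apply]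
    have hdet : ∀ x ∈ M.map (glEquiv κ F).toMonoidHom, LinearMap.det x.toLinearMap = 1 := by
      rintro _ ⟨x, hx, rfl⟩
      exact (mem_specialLinear_iff x).1 (hM2 hx)
    obtain ⟨k, hk, hke⟩ := h (M.map (glEquiv κ F).toMonoidHom) hstab hdet
      ⟨glEquiv κ F g, Subgroup.mem_map_of_mem _ hg, fun hc => hgK ((mem_stab_iff g).2 hc)⟩ φ v hv
    rw [← hke]
    simpa using hk

theorem card_eq {m : ℕ} (hD : Cfsg.Geo.IsMDecomposition m D) : t * m = Fintype.card κ := by
  have h := DirectSum.isInternal_submodule_of_iSupIndep_of_iSup_eq_top hD.indep hD.iSup_eq_top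
  have e := Module.finrank_eq_card_basis (h.collectedBasis fun i => Module.finBasis F (D i))
  rw [Module.finrank_fintype_fun_eq_card, Fintype.card_sigma] at e
  simpa [hD.finrank_eq, mul_comm] using e.symm

theorem proper {m : ℕ} (hD : Cfsg.Geo.IsMDecomposition m D) :
    ∃ (φ : Dual F (κ → F)) (v : κ → F), φ v = 0 ∧ ¬ Permutes D (tvec φ v) := by
  obtain ⟨P, hP⟩ := exists_proj hD.indep hD.iSup_eq_top
  have nz : ∀ i, ∃ x ∈ D i, x ≠ 0 := fun i => Submodule.exists_mem_ne_zero_of_ne_bot fun h => by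
    have := hD.finrank_eq i
    rw [h, finrank_bot] at this
    have := hD.pos
    omega
  have ht := hD.two_le
  let i : Fin t := ⟨0, by omega⟩
  let j : Fin t := ⟨1, by omega⟩
  have hij : i ≠ j := fun h => by simp [i, j] at h
  obtain ⟨w, hw, hw0⟩ := nz i
  obtain ⟨v, hv, hv0⟩ := nz j
  obtain ⟨φ, hφ, -⟩ := exists_dual_one (⊥ : Submodule F (κ → F)) (x := w) (by rwa [Submodule.mem_bot])
  have h0 : (φ.comp (P i)) v = 0 := by rw [LinearMap.comp_apply, hP.other i j hij.symm v hv, map_zero]
  refine ⟨φ.comp (P i), v, h0, fun ⟨σ, hσ⟩ => ?_⟩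
  have h1 : tvec (φ.comp (P i)) v w ∈ D (σ i) := hσ i ▸ Submodule.mem_map_of_mem hw
  rw [tvec_apply h0, LinearMap.comp_apply, hP.self i w hw, hφ, one_smul] at h1
  rcases eq_or_ne (σ i) j with e | hne
  · rw [e] at h1
    have := hP.other i j hij.symm _ h1
    rw [map_add, hP.self i w hw, hP.other i j hij.symm v hv, add_zero] at this
    exact hw0 this
  · have := hP.other j (σ i) hne _ h1
    rw [map_add, hP.other j i hij w hw, hP.self j v hv, zero_add] at this
    exact hv0 this

theorem isMaximal [Fintype F] {m : ℕ} (hD : Cfsg.Geo.IsMDecomposition m D) (hn : 6 ≤ Fintype.card κ)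
    (h1 : ¬ (m = 1 ∧ Fintype.card F ≤ 4)) (h2 : ¬ (m = 2 ∧ Fintype.card F = 2)) :
    Cfsg.Geo.IsMaximalIn (Cfsg.Geo.specialLinear κ F)
      (Cfsg.Geo.decompositionStabilizer D ⊓ Cfsg.Geo.specialLinear κ F) := by
  classical
  refine isMaximalIn_of (proper hD) fun M hstab hdet ⟨g, hg, hgD⟩ => ?_
  have hcard := card_eq hD
  rcases eq_or_ne m 1 with hm | hm
  · subst hm
    have hb := DirectSum.isInternal_submodule_of_iSupIndep_of_iSup_eq_top hD.indep hD.iSup_eq_top
    let b : ∀ i, Basis (Fin 1) F (D i) := fun i => (Module.finBasis F (D i)).reindex (finCongr (hD.finrank_eq i))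
    let e : Basis (Fin t) F (κ → F) := (hb.collectedBasis b).reindex (Equiv.sigmaUnique (Fin t) fun _ => Fin 1)
    have hmem : ∀ i, e i ∈ D i := fun i => by
      rw [Basis.reindex_apply]
      exact hb.collectedBasis_mem b ((Equiv.sigmaUnique (Fin t) fun _ => Fin 1).symm i)
    have hspan : ∀ i, D i = Submodule.span F {e i} := fun i => by
      refine (Submodule.eq_of_le_of_finrank_eq ((Submodule.span_singleton_le_iff_mem _ _).2 (hmem i)) ?_).symm
      rw [finrank_span_singleton (e.ne_zero i), hD.finrank_eq]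
    have hiff : ∀ g, Permutes D g ↔ Mono e g := fun g => by
      constructor
      · rintro ⟨σ, hσ⟩ i
        have h' : g (e i) ∈ D (σ i) := hσ i ▸ Submodule.mem_map_of_mem (hmem i)
        rw [hspan] at h'
        obtain ⟨c, hc⟩ := Submodule.mem_span_singleton.1 h'
        exact ⟨σ i, c, hc.symm⟩
      · intro hmn
        obtain ⟨σ, c, rfl⟩ := exists_monE hmn
        refine permutes_of_le hD.finrank_eq _ σ fun i x hx => ?_
        rw [hspan] at hx
        obtain ⟨a, rfl⟩ := Submodule.mem_span_singleton.1 hx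
        rw [map_smul, monE_basis]
        exact Submodule.smul_mem _ _ (Submodule.smul_mem _ _ (hmem _))
    have h : MOver e M := ⟨fun x hx hd => hstab x ((hiff x).2 hx) hd, by rw [Fintype.card_fin]; omega⟩
    exact h.all_tvec hdet (by omega) (h.hasFix (by rw [Fintype.card_fin]; omega) (by omega) hg fun hc => hgD ((hiff g).2 hc))
  · obtain ⟨P, hP⟩ := exists_proj hD.indep hD.iSup_eq_top
    have hpos := hD.pos
    have h : Over D P m M := ⟨hD.indep, hD.iSup_eq_top, hP, hD.finrank_eq, by omega, hstab⟩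
    refine h.all_tvec ?_ hg hgD
    rcases eq_or_ne m 2 with hm2 | hm2
    · refine Or.inr ⟨by rw [Fintype.card_fin]; subst hm2; omega, ?_⟩
      haveI : Nontrivial Fˣ := by
        rw [← Fintype.one_lt_card_iff_nontrivial, Fintype.card_units]
        have : 1 < Fintype.card F := Fintype.one_lt_card
        omega
      exact exists_ne 1
    · exact Or.inl (by omega)

end Cfsg.Agent.Classical.Decomp
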