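import Cfsg.Agent.Classical.Decomp.Basic

/-!
Monomial automorphisms with respect to a basis.
-/

set_option autoImplicit false

namespace Cfsg.Agent.Classical.Decomp

open Module Cfsg.Agent.ClassicalMax

variable {F V : Type*} [Field F] [AddCommGroup V] [Module F V] {ι : Type*} [Fintype ι] [DecidableEq ι]
  (e : Basis ι F V)

/-- every basis vector goes to a multiple of a basis vector -/
def Mono (g : V ≃ₗ[F] V) : Prop := ∀ i, ∃ (j : ι) (c : F), g (e i) = c • e j

/-- `e i ↦ c i • e (σ i)` -/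
noncomputable def monE (σ : Equiv.Perm ι) (c : ι → Fˣ) : V ≃ₗ[F] V :=
  e.equiv (e.unitsSMul fun i => c (σ.symm i)) σ

variable {e}

theorem monE_basis (σ : Equiv.Perm ι) (c : ι → Fˣ) (i : ι) : monE e σ c (e i) = (c i : F) • e (σ i) := by
  rw [monE, Basis.equiv_apply, Basis.unitsSMul_apply, Equiv.symm_apply_apply, Units.smul_def]

theorem monE_mul (σ τ : Equiv.Perm ι) (c d : ι → Fˣ) :
    monE e σ c * monE e τ d = monE e (σ * τ) fun i => c (τ i) * d i := by
  classical
  refine LinearEquiv.toLinearMap_injective (e.ext fun i => ?_)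
  show monE e σ c (monE e τ d (e i)) = monE e (σ * τ) _ (e i)
  rw [monE_basis, monE_basis, map_smul, monE_basis, smul_smul, Units.val_mul, mul_comm, Equiv.Perm.mul_apply]

theorem monE_one : monE e 1 (fun _ => (1 : Fˣ)) = (1 : V ≃ₗ[F] V) :=
  LinearEquiv.toLinearMap_injective (e.ext fun i => by
    show monE e 1 _ (e i) = e i
    rw [monE_basis, Units.val_one, one_smul, Equiv.Perm.one_apply])

theorem monE_inv (σ : Equiv.Perm ι) (c : ι → Fˣ) :
    (monE e σ c)⁻¹ = monE e σ⁻¹ fun i => (c (σ⁻¹ i))⁻¹ := by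
  refine inv_eq_of_mul_eq_one_right ?_
  rw [monE_mul, mul_inv_cancel, ← monE_one (e := e)]
  congr 1
  funext i
  exact mul_inv_cancel _

theorem repr_monE (σ : Equiv.Perm ι) (c : ι → Fˣ) (x : V) (i : ι) :
    e.repr (monE e σ c x) (σ i) = c i * e.repr x i := by
  conv_lhs => rw [← e.sum_repr x]
  rw [map_sum, map_sum, Finsupp.coe_finset_sum, Finset.sum_apply, Finset.sum_eq_single i]
  · simp [monE_basis, mul_comm]
  · intro b _ hb
    simp [monE_basis, hb]
  · simp

theorem det_monE (σ : Equiv.Perm ι) (c : ι → Fˣ) :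
    LinearMap.det (monE e σ c).toLinearMap = ((Equiv.Perm.sign σ : ℤ) : F) * ∏ i, (c i : F) := by
  rw [← LinearMap.det_toMatrix e,
    show LinearMap.toMatrix e e (monE e σ c).toLinearMap =
        (Matrix.diagonal fun i => (c i : F)).submatrix σ.symm id from ?_, Matrix.det_permute, Matrix.det_diagonal,
    Equiv.Perm.sign_symm]
  ext i j
  rw [LinearMap.toMatrix_apply, LinearEquiv.coe_coe, monE_basis, map_smul, Basis.repr_self, Matrix.submatrix_apply,
    Matrix.diagonal_apply, Finsupp.smul_apply, Finsupp.single_apply]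
  by_cases h : σ j = i
  · subst h; simp
  · rw [if_neg h, if_neg fun h' => h (by rw [show j = σ.symm i from h'.symm]; simp), smul_zero]

theorem mono_monE (σ : Equiv.Perm ι) (c : ι → Fˣ) : Mono e (monE e σ c) := fun i => ⟨σ i, c i, monE_basis σ c i⟩

theorem exists_monE {g : V ≃ₗ[F] V} (hg : Mono e g) : ∃ σ c, g = monE e σ c := by
  choose τ c hc using hg
  have hc0 : ∀ i, c i ≠ 0 := fun i h => e.ne_zero i (g.map_eq_zero_iff.1 (by rw [hc, h, zero_smul]))
  have hinj : Function.Injective τ := fun i j h => by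
    by_contra hne
    have : g (c j • e i - c i • e j) = 0 := by
      rw [map_sub, map_smul, map_smul, hc, hc, h, smul_smul, smul_smul, mul_comm, sub_self]
    have h2 := congrArg (fun v => e.repr v i) (g.map_eq_zero_iff.1 this)
    simp [hne] at h2
    exact hc0 j h2
  refine ⟨Equiv.ofBijective τ ⟨hinj, Finite.injective_iff_surjective.1 hinj⟩, fun i => Units.mk0 _ (hc0 i),
    LinearEquiv.toLinearMap_injective (e.ext fun i => ?_)⟩
  show g (e i) = monE e _ _ (e i)
  rw [monE_basis, hc]
  rfl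

theorem Mono.mul {g g' : V ≃ₗ[F] V} (h : Mono e g) (h' : Mono e g') : Mono e (g * g') := fun i => by
  obtain ⟨j, c, hj⟩ := h' i
  obtain ⟨k, d, hk⟩ := h j
  exact ⟨k, c * d, by rw [LinearEquiv.mul_apply, hj, map_smul, hk, smul_smul]⟩

theorem Mono.inv {g : V ≃ₗ[F] V} (h : Mono e g) : Mono e g⁻¹ := by
  obtain ⟨σ, c, rfl⟩ := exists_monE h
  rw [monE_inv]
  exact mono_monE _ _

/-- units with value one outside a pair -/
def dpair (p q : ι) (b : Fˣ) : ι → Fˣ := Function.update (Function.update (fun _ => 1) q b⁻¹) p b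

theorem dpair_left (p q : ι) (b : Fˣ) : dpair p q b p = b := Function.update_self ..

theorem dpair_right {p q : ι} (h : p ≠ q) (b : Fˣ) : dpair p q b q = b⁻¹ := by
  rw [dpair, Function.update_of_ne h.symm, Function.update_self]

theorem dpair_other {p q i : ι} (hp : i ≠ p) (hq : i ≠ q) (b : Fˣ) : dpair p q b i = 1 := by
  rw [dpair, Function.update_of_ne hp, Function.update_of_ne hq]

theorem prod_dpair {p q : ι} (h : p ≠ q) (b : Fˣ) : ∏ i, (dpair p q b i : F) = 1 := by
  rw [Fintype.prod_eq_mul p q h (fun i hi => by rw [dpair_other hi.1 hi.2]; rfl), dpair_left, dpair_right h,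
    ← Units.val_mul, mul_inv_cancel, Units.val_one]

theorem det_dpair {p q : ι} (h : p ≠ q) (b : Fˣ) : LinearMap.det (monE e 1 (dpair p q b)).toLinearMap = 1 := by
  rw [det_monE, prod_dpair h, Equiv.Perm.sign_one]
  simp

/-- every permutation lifts to a monomial element of determinant one -/
theorem exists_det_one (σ : Equiv.Perm ι) : ∃ c : ι → Fˣ, LinearMap.det (monE e σ c).toLinearMap = 1 := by
  cases isEmpty_or_nonempty ι with
  | inl h => exact ⟨fun _ => 1, by rw [det_monE, Subsingleton.elim σ 1]; simp⟩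
  | inr h =>
    obtain ⟨i⟩ := h
    refine ⟨Function.update (fun _ => 1) i (Units.map (Int.castRingHom F).toMonoidHom (Equiv.Perm.sign σ)), ?_⟩
    rw [det_monE, Fintype.prod_eq_single i fun j hj => by rw [Function.update_of_ne hj]; rfl, Function.update_self]
    show ((Equiv.Perm.sign σ : ℤ) : F) * ((Equiv.Perm.sign σ : ℤ) : F) = 1
    rw [← Int.cast_mul, ← Units.val_mul, Int.units_mul_self, Units.val_one, Int.cast_one]

theorem exists_unit_b [Fintype F] (hq : 5 ≤ Fintype.card F) : ∃ b : Fˣ, b ^ 2 ≠ 1 ∧ b ^ 3 ≠ 1 := by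
  classical
  obtain ⟨b, hb⟩ := IsCyclic.exists_generator (α := Fˣ)
  have ho : orderOf b = Fintype.card F - 1 := by
    rw [orderOf_eq_card_of_forall_mem_zpowers hb, Nat.card_eq_fintype_card, Fintype.card_units]
  exact ⟨b, pow_ne_one_of_lt_orderOf (by norm_num) (by omega), pow_ne_one_of_lt_orderOf (by norm_num) (by omega)⟩

end Cfsg.Agent.Classical.Decomp
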