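import Cfsg.Agent.Classical.Decomp.Basic

/-!
Overgroups of the stabiliser of a decomposition into summands of dimension at least two
contain every transvection.
-/

set_option autoImplicit false

namespace Cfsg.Agent.Classical.Decomp

open Module Cfsg.Agent.ClassicalMax

variable {F V : Type*} [Field F] [AddCommGroup V] [Module F V] [FiniteDimensional F V]
  {ι : Type*} [Fintype ι] [DecidableEq ι] {D : ι → Submodule F V} {P : ι → V →ₗ[F] V} {m : ℕ}
  {M : Subgroup (V ≃ₗ[F] V)}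

theorem exists_mem_not_span (hdim : ∀ i, finrank F (D i) = m) (hm : 2 ≤ m) (i : ι) (x : V) :
    ∃ y ∈ D i, y ∉ Submodule.span F {x} := by
  by_contra hc
  push Not at hc
  have h1 := (Submodule.finrank_mono hc).trans (finrank_span_le_card ({x} : Set V))
  rw [hdim, Set.toFinset_singleton, Finset.card_singleton] at h1
  omega

theorem exists_ker_not_span (hdim : ∀ i, finrank F (D i) = m) (hm : 3 ≤ m) (i : ι) (x : V) (φ : Dual F V) :
    ∃ u ∈ D i, φ u = 0 ∧ u ∉ Submodule.span F {x} := by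
  obtain ⟨y, hy, hyx⟩ := exists_mem_not_span hdim (by omega) i x
  by_cases hφy : φ y = 0
  · exact ⟨y, hy, hφy, hyx⟩
  by_contra hc
  push Not at hc
  have hle : D i ≤ Submodule.span F ({x, y} : Set V) := fun z hz => by
    have hz' := hc (z - (φ z / φ y) • y) (sub_mem hz (Submodule.smul_mem _ _ hy))
      (by rw [map_sub, map_smul, smul_eq_mul, div_mul_cancel₀ _ hφy, sub_self])
    obtain ⟨c, hc'⟩ := Submodule.mem_span_singleton.1 hz'
    exact Submodule.mem_span_pair.2 ⟨c, φ z / φ y, by rw [hc', sub_add_cancel]⟩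
  classical
  have h1 := (Submodule.finrank_mono hle).trans (finrank_span_le_card ({x, y} : Set V))
  have h2 : ({x, y} : Set V).toFinset.card ≤ 2 := by
    rw [Set.toFinset_insert, Set.toFinset_singleton]
    exact Finset.card_le_two
  rw [hdim] at h1
  omega

theorem span_singleton_self_inv {u x : V} (hu : u ≠ 0) (hx : x ≠ 0) (h : u ∈ Submodule.span F {x}) :
    x ∈ Submodule.span F {u} := by
  obtain ⟨c, rfl⟩ := Submodule.mem_span_singleton.1 h
  refine Submodule.mem_span_singleton.2 ⟨c⁻¹, ?_⟩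
  rw [smul_smul, inv_mul_cancel₀ (fun h => hu (by rw [h, zero_smul])), one_smul]

/-- what an overgroup of the stabiliser has to satisfy -/
structure Over (D : ι → Submodule F V) (P : ι → V →ₗ[F] V) (m : ℕ) (M : Subgroup (V ≃ₗ[F] V)) : Prop where
  indep : iSupIndep D
  span : iSup D = ⊤
  proj : IsProj D P
  dim : ∀ i, finrank F (D i) = m
  two_le : 2 ≤ m
  stab : ∀ g, Permutes D g → LinearMap.det g.toLinearMap = 1 → g ∈ M

theorem Over.block_tvec (h : Over D P m M) {j : ι} {u : V} (hu : u ∈ D j) (ψ : Dual F V) (h0 : ψ (P j u) = 0) :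
    tvec (ψ.comp (P j)) u ∈ M :=
  h.stab _ (permutes_tvec h.dim h.proj hu ψ h0) (det_tvec _ _)

theorem Over.ne_zero_mem (h : Over D P m M) (i : ι) : ∃ v ∈ D i, v ≠ 0 := by
  obtain ⟨v, hv, hv0⟩ := exists_mem_not_span h.dim h.two_le i 0
  exact ⟨v, hv, fun e => hv0 (by rw [e]; exact zero_mem _)⟩

theorem Over.eq_index (h : Over D P m M) {x : V} {j k : ι} (hj : x ∈ D j) (hk : x ∈ D k) (hx : x ≠ 0) : j = k := by
  by_contra hne
  exact hx (by rw [← h.proj.self j x hj, h.proj.other j k (Ne.symm hne) x hk])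

theorem Over.exists_impure (h : Over D P m M) {g : V ≃ₗ[F] V} (hg : g ∈ M) (hgD : ¬ Permutes D g) :
    ∃ (φ : Dual F V) (w : V), φ w = 0 ∧ φ ≠ 0 ∧ (∀ j, w ∉ D j) ∧ tvec φ w ∈ M := by
  by_cases hc : ∃ i, ∃ v ∈ D i, ∀ j, g v ∉ D j
  · obtain ⟨i, v, hv, hgv⟩ := hc
    obtain ⟨x, hx, hxv⟩ := exists_mem_not_span h.dim h.two_le i v
    obtain ⟨φ₀, h1, h2⟩ := exists_dual_one _ hxv
    have h0 : φ₀ (P i v) = 0 := by rw [h.proj.self i v hv, h2 v (Submodule.mem_span_singleton_self v)]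
    have hT := mul_mem (mul_mem hg (h.block_tvec hv φ₀ h0)) (inv_mem hg)
    rw [conj_tvec g (show (φ₀.comp (P i)) v = 0 from h0)] at hT
    refine ⟨_, _, ?_, fun e => ?_, hgv, hT⟩
    · show φ₀ (P i (g⁻¹ (g v))) = 0
      rw [inv_apply, h0]
    · have := LinearMap.congr_fun e (g x)
      rw [LinearMap.zero_apply] at this
      change φ₀ (P i (g⁻¹ (g x))) = 0 at this
      rw [inv_apply, h.proj.self i x hx, h1] at this
      exact one_ne_zero this
  · push Not at hc
    refine absurd ?_ hgD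
    have key : ∀ i, ∃ j, ∀ v ∈ D i, g v ∈ D j := fun i => by
      obtain ⟨v0, hv0, hne⟩ := h.ne_zero_mem i
      obtain ⟨j, hj⟩ := hc i v0 hv0
      refine ⟨j, fun v hv => ?_⟩
      obtain ⟨k, hk⟩ := hc i v hv
      by_cases hkj : k = j
      · exact hkj ▸ hk
      obtain ⟨l, hl⟩ := hc i (v + v0) (add_mem hv hv0)
      have hgne : g v0 ≠ 0 := fun e => hne (g.map_eq_zero_iff.1 e)
      have hl' : l = j := by
        by_contra hlj
        have := h.proj.other j l hlj _ hl
        rw [map_add, map_add, h.proj.other j k hkj _ hk, zero_add, h.proj.self j _ hj] at this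
        exact hgne this
      subst hl'
      have := h.proj.other k l (Ne.symm hkj) _ hl
      rw [map_add, map_add, h.proj.other k l (Ne.symm hkj) _ hj, add_zero, h.proj.self k _ hk] at this
      rw [this]
      exact zero_mem _
    choose σ hσ using key
    have hinj : Function.Injective σ := fun i i' e => by
      have e1 : ∀ k, (D k).map g.toLinearMap = D (σ k) := fun k =>
        Submodule.eq_of_le_of_finrank_eq (Submodule.map_le_iff_le_comap.2 (hσ k))
          (by rw [LinearEquiv.finrank_map_eq, h.dim, h.dim])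
      obtain ⟨v, hv, hv0⟩ := h.ne_zero_mem i
      refine h.eq_index hv ?_ hv0
      have := Submodule.mem_map_of_mem (f := g.toLinearMap) hv
      rw [e1, e, ← e1] at this
      obtain ⟨v', hv', e'⟩ := this
      rwa [← g.injective e']
    exact permutes_of_le h.dim g (Equiv.ofBijective σ ⟨hinj, Finite.injective_iff_surjective.1 hinj⟩) hσ

/-- a transvection with centre in one summand and functional reaching another one -/
def Across (D : ι → Submodule F V) (M : Subgroup (V ≃ₗ[F] V)) : Prop :=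
  ∃ (j k : ι) (u : V) (φ : Dual F V), k ≠ j ∧ u ∈ D j ∧ u ≠ 0 ∧ φ u = 0 ∧ (∃ x ∈ D k, φ x ≠ 0) ∧ tvec φ u ∈ M

theorem Over.across_of_good (h : Over D P m M) {φ : Dual F V} {w : V} (hw : φ w = 0) (hT : tvec φ w ∈ M)
    {j k : ι} (hkj : k ≠ j) (hk : ∃ x ∈ D k, φ x ≠ 0) {u : V} (hu : u ∈ D j) (hu0 : u ≠ 0) (hφu : φ u = 0)
    (hind : P j w ∉ Submodule.span F {u}) : Across D M := by
  obtain ⟨φ₀, h1, h2⟩ := exists_dual_one _ hind
  have h0 : φ₀ (P j u) = 0 := by rw [h.proj.self j u hu, h2 u (Submodule.mem_span_singleton_self u)]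
  have hψu : (φ₀.comp (P j)) u = 0 := h0
  have hB := h.block_tvec hu φ₀ h0
  have hconj := mul_mem (mul_mem hB hT) (inv_mem hB)
  rw [conj_tvec _ hw] at hconj
  have e1 : φ.comp ((tvec (φ₀.comp (P j)) u)⁻¹ : V ≃ₗ[F] V).toLinearMap = φ := LinearMap.ext fun x => by
    show φ ((tvec (φ₀.comp (P j)) u)⁻¹ x) = φ x
    rw [tvec_inv hψu, tvec_apply (by rw [LinearMap.neg_apply, hψu, neg_zero]), map_add, map_smul, hφu,
      smul_zero, add_zero]
  have e2 : tvec (φ₀.comp (P j)) u w = w + u := by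
    rw [tvec_apply hψu, LinearMap.comp_apply, h1, one_smul]
  rw [e1, e2] at hconj
  have := mul_mem hconj (inv_mem hT)
  rw [tvec_inv hw, ← neg_one_smul F φ, tvec_smul, tvec_mul_right (by rw [map_add, hw, hφu, add_zero])
    (by rw [map_smul, hw, smul_zero]), neg_one_smul, add_neg_cancel_comm] at this
  exact ⟨j, k, u, φ, hkj, hu, hu0, hφu, hk, this⟩

theorem Over.exists_off (h : Over D P m M) {φ : Dual F V} (hφ : φ ≠ 0) {j : ι} (hj : ∀ x ∈ D j, φ x = 0) :
    ∃ k, k ≠ j ∧ ∃ x ∈ D k, φ x ≠ 0 := by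
  by_contra hc
  push Not at hc
  refine hφ (LinearMap.ext fun x => ?_)
  rw [LinearMap.zero_apply, ← h.proj.sum x, map_sum]
  refine Finset.sum_eq_zero fun i _ => ?_
  rcases eq_or_ne i j with rfl | hij
  · exact hj _ (h.proj.mem _ _)
  · exact hc i hij _ (h.proj.mem _ _)

theorem Over.across (h : Over D P m M) (hbig : 3 ≤ m ∨ (3 ≤ Fintype.card ι ∧ ∃ δ : Fˣ, δ ≠ 1)) {g : V ≃ₗ[F] V}
    (hg : g ∈ M) (hgD : ¬ Permutes D g) : Across D M := by
  classical
  obtain ⟨φ, w, hw, hφ, hwD, hT⟩ := h.exists_impure hg hgD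
  by_cases hA : ∃ j, P j w ≠ 0 ∧ ∀ x ∈ D j, φ x = 0
  · obtain ⟨j, hj0, hj⟩ := hA
    obtain ⟨k, hkj, hk⟩ := h.exists_off hφ hj
    obtain ⟨u, hu, huw⟩ := exists_mem_not_span h.dim h.two_le j (P j w)
    have hu0 : u ≠ 0 := fun e => huw (e ▸ zero_mem _)
    exact h.across_of_good hw hT hkj hk hu hu0 (hj u hu) fun e => huw (span_singleton_self_inv hj0 hu0 e)
  push Not at hA
  have hw2 : ∀ j, ∃ k, k ≠ j ∧ P k w ≠ 0 := fun j => by
    by_contra hc
    push Not at hc
    refine hwD j ?_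
    rw [← h.proj.sum w]
    exact sum_mem fun i _ => (eq_or_ne i j).elim (fun e => e ▸ h.proj.mem _ _) fun hne => by
      rw [hc i hne]; exact zero_mem _
  obtain ⟨j, hj0⟩ : ∃ j, P j w ≠ 0 := by
    by_contra hc
    push Not at hc
    obtain ⟨x, hx⟩ : ∃ x, φ x ≠ 0 := by
      by_contra hc'
      push Not at hc'
      exact hφ (LinearMap.ext hc')
    rw [← h.proj.sum x, map_sum] at hx
    obtain ⟨i, -, -⟩ := Finset.exists_ne_zero_of_sum_ne_zero hx
    refine hwD i ?_
    rw [← h.proj.sum w, Finset.sum_eq_zero fun k _ => hc k]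
    exact zero_mem _
  obtain ⟨l, hlj, hl0⟩ := hw2 j
  have off : ∀ i, ∃ k, k ≠ i ∧ ∃ x ∈ D k, φ x ≠ 0 := fun i => by
    rcases eq_or_ne l i with rfl | hli
    · exact ⟨j, Ne.symm hlj, hA j hj0⟩
    · exact ⟨l, hli, hA l hl0⟩
  rcases hbig with h3 | ⟨h3, δ, hδ⟩
  · obtain ⟨u, hu, hφu, huw⟩ := exists_ker_not_span h.dim h3 j (P j w) φ
    obtain ⟨k, hkj, hk⟩ := off j
    have hu0 : u ≠ 0 := fun e => huw (e ▸ zero_mem _)
    exact h.across_of_good hw hT hkj hk hu hu0 hφu fun e => huw (span_singleton_self_inv hj0 hu0 e)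
  have good : ∀ i, φ (P i w) ≠ 0 → Across D M := by
    intro i hi
    obtain ⟨k, hki, hk⟩ := off i
    obtain ⟨y, hy, hy'⟩ := exists_mem_not_span h.dim h.two_le i (P i w)
    refine h.across_of_good hw hT hki hk (u := y - (φ y / φ (P i w)) • P i w)
      (sub_mem hy (Submodule.smul_mem _ _ (h.proj.mem _ _))) (fun e => hy' ?_) ?_ fun e => ?_
    · rw [sub_eq_zero] at e
      rw [e]
      exact Submodule.smul_mem _ _ (Submodule.mem_span_singleton_self _)
    · rw [map_sub, map_smul, smul_eq_mul, div_mul_cancel₀ _ hi, sub_self]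
    · obtain ⟨c, hc⟩ := Submodule.mem_span_singleton.1 e
      refine hi ?_
      rw [← hc, map_smul, map_sub, map_smul, smul_eq_mul, smul_eq_mul, div_mul_cancel₀ _ hi, sub_self, mul_zero]
  by_cases hz : ∀ i, φ (P i w) = 0
  swap
  · push Not at hz
    obtain ⟨i, hi⟩ := hz
    exact good i hi
  -- two summands `j`, `l` on which the centre and the functional are degenerate, and a third one
  have unit : ∀ i, P i w ≠ 0 → ∃ (f : V) (θ : Dual F V), f ∈ D i ∧ φ f = 1 ∧ θ f = 1 ∧ θ (P i w) = 0 := by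
    intro i hi
    obtain ⟨x, hx, hφx⟩ := hA i hi
    have hf : (φ x)⁻¹ • x ∉ Submodule.span F {P i w} := fun e => by
      obtain ⟨c, hc⟩ := Submodule.mem_span_singleton.1 e
      have := congrArg φ hc
      rw [map_smul, hz i, smul_zero, map_smul, smul_eq_mul, inv_mul_cancel₀ hφx] at this
      exact zero_ne_one this
    obtain ⟨θ, h1, h2⟩ := exists_dual_one _ hf
    exact ⟨_, θ, Submodule.smul_mem _ _ hx, by rw [map_smul, smul_eq_mul, inv_mul_cancel₀ hφx], h1,
      h2 _ (Submodule.mem_span_singleton_self _)⟩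
  obtain ⟨fj, -, hfj, hφj, -, -⟩ := unit j hj0
  obtain ⟨fl, θl, hfl, hφl, hθl, hθlw⟩ := unit l hl0
  obtain ⟨θj, hθj1, hθj⟩ := exists_dual_one (Submodule.span F {fj}) (x := P j w) fun e => by
    obtain ⟨c, hc⟩ := Submodule.mem_span_singleton.1 e
    have := congrArg φ hc
    rw [map_smul, hφj, hz j, smul_eq_mul, mul_one] at this
    exact hj0 (by rw [← hc, this, zero_smul])
  obtain ⟨θm, hθm1, hθm⟩ := exists_dual_one (Submodule.span F {fl}) (x := P l w) fun e => by
    obtain ⟨c, hc⟩ := Submodule.mem_span_singleton.1 e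
    have := congrArg φ hc
    rw [map_smul, hφl, hz l, smul_eq_mul, mul_one] at this
    exact hl0 (by rw [← hc, this, zero_smul])
  obtain ⟨k, hk⟩ : ∃ k, k ∉ ({j, l} : Finset ι) := by
    by_contra hc
    push Not at hc
    have := (Finset.card_le_card (show (Finset.univ : Finset ι) ⊆ {j, l} from fun i _ => hc i)).trans
      Finset.card_le_two
    rw [Finset.card_univ] at this
    omega
  simp only [Finset.mem_insert, Finset.mem_singleton, not_or] at hk
  obtain ⟨hkj, hkl⟩ := hk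
  obtain ⟨y, hy, hyw⟩ := exists_mem_not_span h.dim h.two_le k (P k w)
  obtain ⟨θk, hθk, hθkw⟩ := exists_dual_one _ hyw
  have pj : θj (P j fj) = 0 := by rw [h.proj.self j fj hfj, hθj fj (Submodule.mem_span_singleton_self _)]
  have pl : θm (P l fl) = 0 := by rw [h.proj.self l fl hfl, hθm fl (Submodule.mem_span_singleton_self _)]
  have dl : θl (P l fl) = 1 := by rw [h.proj.self l fl hfl, hθl]
  have dk : θk (P k y) = 1 := by rw [h.proj.self k y hy, hθk]
  set Bj := tvec (θj.comp (P j)) fj with hBj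
  set Bl := tvec (θm.comp (P l)) (-fl) with hBl
  set Dl := dil (θl.comp (P l)) fl δ with hDl
  set Dk := dil (θk.comp (P k)) y δ⁻¹ with hDk
  have pl' : (θm.comp (P l)) (-fl) = 0 := by rw [map_neg, LinearMap.comp_apply, pl, neg_zero]
  have hh : Bj * (Bl * (Dl * Dk)) ∈ M := by
    refine mul_mem (h.block_tvec hfj θj pj) (mul_mem (h.block_tvec (neg_mem hfl) θm pl') (h.stab _ ?_ ?_))
    · refine permutes_of_le h.dim _ 1 fun i x hx => ?_
      rw [LinearEquiv.mul_apply, Equiv.Perm.one_apply, hDl, hDk, dil_apply (show (θk.comp (P k)) y = 1 from dk),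
        dil_apply (show (θl.comp (P l)) fl = 1 from dl)]
      have aux : ∀ (a : ι) (v : V) (ψ : Dual F V) (c : F) (z : V), z ∈ D i → v ∈ D a →
          z + (ψ.comp (P a)) z • c • v ∈ D i := fun a v ψ c z hz hv => by
        rcases eq_or_ne i a with rfl | hne
        · exact add_mem hz (Submodule.smul_mem _ _ (Submodule.smul_mem _ _ hv))
        · rw [LinearMap.comp_apply, h.proj.other a i hne z hz, map_zero, zero_smul, add_zero]; exact hz
      exact aux l fl θl _ _ (aux k y θk _ x hx hy) hfl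
    · rw [det_mul, det_dil (show (θl.comp (P l)) fl = 1 from dl), det_dil (show (θk.comp (P k)) y = 1 from dk),
        ← Units.val_mul, mul_inv_cancel, Units.val_one]
  set hc := Bj * (Bl * (Dl * Dk)) with hhc
  have Plfj : P l fj = 0 := h.proj.other l j (Ne.symm hlj) fj hfj
  have Pkfj : P k fj = 0 := h.proj.other k j (Ne.symm hkj) fj hfj
  have Pkfl : P k fl = 0 := h.proj.other k l (Ne.symm hkl) fl hfl
  have Pjfl : P j fl = 0 := h.proj.other j l hlj fl hfl
  have ehw : hc w = w + fj + -fl := by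
    rw [hhc, LinearEquiv.mul_apply, LinearEquiv.mul_apply, LinearEquiv.mul_apply, hDk,
      dil_apply (show (θk.comp (P k)) y = 1 from dk), LinearMap.comp_apply,
      hθkw _ (Submodule.mem_span_singleton_self _), zero_smul, add_zero, hDl,
      dil_apply (show (θl.comp (P l)) fl = 1 from dl), LinearMap.comp_apply, hθlw, zero_smul, add_zero, hBl,
      tvec_apply pl', LinearMap.comp_apply, hθm1, one_smul, hBj, tvec_apply (show (θj.comp (P j)) fj = 0 from pj),
      map_add, LinearMap.comp_apply, LinearMap.comp_apply, hθj1, map_neg (P j), Pjfl, neg_zero, map_zero, add_zero,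
      one_smul]
    abel
  have ehiw : hc⁻¹ w = w - fj + ((δ⁻¹ : Fˣ) : F) • fl := by
    rw [eq_comm, ← sub_eq_zero]
    apply hc.map_eq_zero_iff.1
    rw [map_sub, map_add, map_sub, apply_inv, map_smul, ehw]
    have e1 : hc fj = fj := by
      rw [hhc, LinearEquiv.mul_apply, LinearEquiv.mul_apply, LinearEquiv.mul_apply, hDk,
        dil_apply (show (θk.comp (P k)) y = 1 from dk), LinearMap.comp_apply, Pkfj, map_zero, zero_smul, add_zero,
        hDl, dil_apply (show (θl.comp (P l)) fl = 1 from dl), LinearMap.comp_apply, Plfj, map_zero, zero_smul,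
        add_zero, hBl, tvec_apply pl', LinearMap.comp_apply, Plfj, map_zero, zero_smul, add_zero, hBj,
        tvec_apply (show (θj.comp (P j)) fj = 0 from pj), LinearMap.comp_apply, pj, zero_smul, add_zero]
    have e2 : hc fl = (δ : F) • fl := by
      rw [hhc, LinearEquiv.mul_apply, LinearEquiv.mul_apply, LinearEquiv.mul_apply, hDk,
        dil_apply (show (θk.comp (P k)) y = 1 from dk), LinearMap.comp_apply, Pkfl, map_zero, zero_smul, add_zero,
        hDl, dil_apply (show (θl.comp (P l)) fl = 1 from dl), LinearMap.comp_apply, dl, one_smul,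
        show fl + ((δ : F) - 1) • fl = (δ : F) • fl by rw [sub_smul, one_smul]; abel, map_smul, hBl,
        tvec_apply pl', LinearMap.comp_apply, pl, zero_smul, add_zero, map_smul, hBj,
        tvec_apply (show (θj.comp (P j)) fj = 0 from pj), LinearMap.comp_apply, Pjfl, map_zero, zero_smul, add_zero]
    rw [e1, e2, smul_smul, ← Units.val_mul, inv_mul_cancel, Units.val_one, one_smul]
    abel
  have hT' := mul_mem (mul_mem hh hT) (inv_mem hh)
  rw [conj_tvec _ hw] at hT'
  have v1 : φ (hc w) = 0 := by rw [ehw, map_add, map_add, map_neg, hw, hφj, hφl]; ring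
  have v2 : (φ.comp (hc⁻¹ : V ≃ₗ[F] V).toLinearMap) (hc w) = 0 := by
    show φ (hc⁻¹ (hc w)) = 0
    rw [inv_apply, hw]
  have v3 : (φ.comp (hc⁻¹ : V ≃ₗ[F] V).toLinearMap) w ≠ 0 := by
    show φ (hc⁻¹ w) ≠ 0
    rw [ehiw, map_add, map_sub, map_smul, hw, hφj, hφl, smul_eq_mul, mul_one, zero_sub, neg_add_eq_sub, sub_ne_zero,
      Units.val_inv_eq_inv_val, Ne, inv_eq_one, Units.val_eq_one]
    exact hδ
  have hcomm := mul_mem (mul_mem (mul_mem hT' hT) (inv_mem hT')) (inv_mem hT)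
  rw [comm_tvec v2 hw v1] at hcomm
  set c := (φ.comp (hc⁻¹ : V ≃ₗ[F] V).toLinearMap) w with hc_def
  have ePj : P j (hc w) = P j w + fj := by
    rw [ehw, map_add, map_add, map_neg, Pjfl, neg_zero, add_zero, h.proj.self j fj hfj]
  have hφ' : (c • φ) (P j (hc w)) ≠ 0 := by
    rw [LinearMap.smul_apply, ePj, map_add, hz j, hφj, zero_add, smul_eq_mul, mul_one]
    exact v3
  obtain ⟨x, hx, hφx⟩ := hA l hl0
  obtain ⟨z, hz1, hz2⟩ := exists_mem_not_span h.dim h.two_le j (P j (hc w))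
  refine h.across_of_good (by rw [LinearMap.smul_apply, v1, smul_zero]) hcomm hlj
    ⟨x, hx, by rw [LinearMap.smul_apply, smul_eq_mul]; exact mul_ne_zero v3 hφx⟩
    (u := z - ((c • φ) z / (c • φ) (P j (hc w))) • P j (hc w))
    (sub_mem hz1 (Submodule.smul_mem _ _ (h.proj.mem _ _))) (fun e => hz2 ?_) ?_ fun e => ?_
  · rw [sub_eq_zero] at e
    rw [e]
    exact Submodule.smul_mem _ _ (Submodule.mem_span_singleton_self _)
  · rw [map_sub, map_smul, smul_eq_mul, div_mul_cancel₀ _ hφ', sub_self]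
  · obtain ⟨a, ha⟩ := Submodule.mem_span_singleton.1 e
    refine hφ' ?_
    conv_lhs => rw [← ha]
    rw [map_smul, map_sub, map_smul, smul_eq_mul, smul_eq_mul, div_mul_cancel₀ _ hφ', sub_self, mul_zero]

theorem Over.witness (h : Over D P m M) {φ : Dual F V} {k : ι} (hk : ∃ x ∈ D k, φ x ≠ 0) (ψ : Dual F V) :
    ∃ ψ₁ ψ₂ : Dual F V, ψ = ψ₁ + ψ₂ ∧ (∃ x ∈ D k, φ x ≠ 0 ∧ ψ₁ x = 0) ∧ ∃ x ∈ D k, φ x ≠ 0 ∧ ψ₂ x = 0 := by
  obtain ⟨x0, hx0, hφ0⟩ := hk
  obtain ⟨y, hy, hyx⟩ := exists_mem_not_span h.dim h.two_le k x0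
  obtain ⟨θ, hθy, hθ⟩ := exists_dual_one _ hyx
  have hθ0 := hθ x0 (Submodule.mem_span_singleton_self x0)
  obtain ⟨x, hx, hφx, hθx⟩ : ∃ x ∈ D k, φ x ≠ 0 ∧ θ x = 1 := by
    by_cases hφy : φ y = 0
    · exact ⟨y + x0, add_mem hy hx0, by rwa [map_add, hφy, zero_add], by rw [map_add, hθy, hθ0, add_zero]⟩
    · exact ⟨y, hy, hφy, hθy⟩
  exact ⟨ψ - ψ x • θ, ψ x • θ, (sub_add_cancel _ _).symm, ⟨x, hx, hφx, by simp [hθx]⟩, x0, hx0, hφ0, by simp [hθ0]⟩

theorem Over.cross (h : Over D P m M) (hA : Across D M) :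
    ∃ j k, k ≠ j ∧ ∀ u ∈ D j, ∀ ψ : Dual F V, tvec (ψ.comp (P k)) u ∈ M := by
  obtain ⟨j, k, u, φ, hkj, hu, hu0, hφu, hk, hT⟩ := hA
  refine ⟨j, k, hkj, ?_⟩
  have hkill : ∀ z ∈ D j, ∀ ψ : Dual F V, (ψ.comp (P k)) z = 0 := fun z hz ψ => by
    rw [LinearMap.comp_apply, h.proj.other k j (Ne.symm hkj) z hz, map_zero]
  have step : ∀ ψ : Dual F V, (∃ x ∈ D k, φ x ≠ 0 ∧ ψ x = 0) → tvec (ψ.comp (P k)) u ∈ M := by
    rintro ψ ⟨x, hx, hφx, hψx⟩
    have h0 : ((φ x)⁻¹ • ψ) (P k x) = 0 := by rw [h.proj.self k x hx, LinearMap.smul_apply, hψx, smul_zero]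
    have hB := h.block_tvec hx _ h0
    have := mul_mem (mul_mem (mul_mem hT hB) (inv_mem hT)) (inv_mem hB)
    rw [comm_tvec hφu (show (((φ x)⁻¹ • ψ).comp (P k)) x = 0 from h0) (hkill u hu _)] at this
    convert this using 2
    exact LinearMap.ext fun z => by simp [hφx]
  have all : ∀ ψ : Dual F V, tvec (ψ.comp (P k)) u ∈ M := fun ψ => by
    obtain ⟨ψ₁, ψ₂, rfl, h1, h2⟩ := h.witness hk ψ
    rw [LinearMap.add_comp, ← tvec_mul_left (hkill u hu _) (hkill u hu _)]
    exact mul_mem (step _ h1) (step _ h2)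
  have move : ∀ a ∈ D j, a ≠ 0 → (∀ ψ : Dual F V, tvec (ψ.comp (P k)) a ∈ M) → ∀ u' ∈ D j, u' ∉ Submodule.span F {a} →
      ∀ ψ : Dual F V, tvec (ψ.comp (P k)) u' ∈ M := by
    intro a ha hane hall u' hu' hind ψ
    have ha0 : a ∉ Submodule.span F {u' - a} := fun e => by
      obtain ⟨c, hc⟩ := Submodule.mem_span_singleton.1 e
      rcases eq_or_ne c 0 with rfl | hc0
      · rw [zero_smul] at hc
        exact hane hc.symm
      · refine hind (Submodule.mem_span_singleton.2 ⟨c⁻¹ + 1, ?_⟩)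
        rw [add_smul, one_smul]
        conv_lhs => arg 1; rw [← hc]
        rw [smul_smul, inv_mul_cancel₀ hc0, one_smul, sub_add_cancel]
    obtain ⟨φ₀, h1, h2⟩ := exists_dual_one _ ha0
    have h0 : φ₀ (P j (u' - a)) = 0 := by
      rw [h.proj.self j _ (sub_mem hu' ha), h2 _ (Submodule.mem_span_singleton_self _)]
    have hB := h.block_tvec (sub_mem hu' ha) φ₀ h0
    have hψ0 : (ψ.comp (P k)) a = 0 := hkill a ha ψ
    have := mul_mem (mul_mem hB (hall ψ)) (inv_mem hB)
    rw [conj_tvec _ hψ0, tvec_apply (show (φ₀.comp (P j)) (u' - a) = 0 from h0), LinearMap.comp_apply (f := φ₀),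
      h.proj.self j a ha, h1, one_smul, add_sub_cancel] at this
    convert this using 2
    refine LinearMap.ext fun z => ?_
    show ψ (P k z) = ψ (P k ((tvec (φ₀.comp (P j)) (u' - a))⁻¹ z))
    rw [tvec_inv (show (φ₀.comp (P j)) (u' - a) = 0 from h0),
      tvec_apply (by rw [LinearMap.neg_apply, LinearMap.comp_apply, h0, neg_zero]), map_add, map_smul,
      h.proj.other k j (Ne.symm hkj) _ (sub_mem hu' ha), smul_zero, add_zero]
  obtain ⟨a, ha, hau⟩ := exists_mem_not_span h.dim h.two_le j u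
  intro u' hu'
  rcases eq_or_ne u' 0 with rfl | h0
  · intro ψ; rw [tvec_zero_right]; exact one_mem M
  by_cases hin : u' ∈ Submodule.span F {u}
  · refine move a ha (fun e => hau (e ▸ zero_mem _)) (move u hu hu0 all a ha hau) u' hu' fun e => hau ?_
    obtain ⟨c, rfl⟩ := Submodule.mem_span_singleton.1 hin
    obtain ⟨d, hd⟩ := Submodule.mem_span_singleton.1 (span_singleton_self_inv h0 (fun e => hau (by rw [e]; exact zero_mem _)) e)
    exact Submodule.mem_span_singleton.2 ⟨d * c, by rw [← hd, smul_smul]⟩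
  · exact move u hu hu0 all u' hu' hin

/-- every transvection with centre in a summand -/
theorem Over.centre (h : Over D P m M) (hA : Across D M) (j : ι) {u : V} (hu : u ∈ D j) {φ : Dual F V}
    (hφu : φ u = 0) : tvec φ u ∈ M := by
  classical
  obtain ⟨j₀, k₀, hne, hE⟩ := h.cross hA
  have other : ∀ i, i ≠ j → ∀ ψ : Dual F V, tvec (ψ.comp (P i)) u ∈ M := by
    intro i hij ψ
    obtain ⟨σ, hσj, hσk⟩ : ∃ σ : Equiv.Perm ι, σ j₀ = j ∧ σ k₀ = i := by
      refine ⟨(Equiv.swap j₀ j).trans (Equiv.swap (Equiv.swap j₀ j k₀) i), ?_, ?_⟩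
      · rw [Equiv.trans_apply, Equiv.swap_apply_left, Equiv.swap_apply_of_ne_of_ne ?_ (Ne.symm hij)]
        intro e
        exact hne ((Equiv.swap j₀ j).injective (e.symm.trans (Equiv.swap_apply_left j₀ j).symm))
      · rw [Equiv.trans_apply, Equiv.swap_apply_left]
    obtain ⟨g, hg, hgp, hgd⟩ := exists_perm h.indep h.span (by have := h.two_le; omega) h.dim σ
    have hgM := h.stab g hgp hgd
    obtain ⟨u₀, hu₀, rfl⟩ : ∃ u₀ ∈ D j₀, g u₀ = u := by
      have e : (D j₀).map g.toLinearMap = D j := Submodule.eq_of_le_of_finrank_eq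
        (Submodule.map_le_iff_le_comap.2 (hσj ▸ hg j₀)) (by rw [LinearEquiv.finrank_map_eq, h.dim, h.dim])
      obtain ⟨u₀, h1, h2⟩ := (e ▸ hu : u ∈ (D j₀).map g.toLinearMap)
      exact ⟨u₀, h1, h2⟩
    have h0 : ((ψ.comp g.toLinearMap).comp (P k₀)) u₀ = 0 := by
      rw [LinearMap.comp_apply, h.proj.other k₀ j₀ (Ne.symm hne) u₀ hu₀, map_zero]
    have := mul_mem (mul_mem hgM (hE u₀ hu₀ (ψ.comp g.toLinearMap))) (inv_mem hgM)
    rw [conj_tvec _ h0] at this
    convert this using 2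
    refine LinearMap.ext fun z => ?_
    show ψ (P i z) = ψ (g (P k₀ (g⁻¹ z)))
    congr 1
    conv_lhs => rw [← apply_inv g z, ← h.proj.sum (g⁻¹ z), map_sum, map_sum]
    rw [Finset.sum_eq_single k₀ (fun b _ hb => h.proj.other i (σ b) (fun e => hb (σ.injective (e.trans hσk.symm))) _
      (hg b _ (h.proj.mem _ _))) (by simp)]
    exact h.proj.self i _ (hσk ▸ hg k₀ _ (h.proj.mem _ _))
  have hzero : ∀ i, (φ.comp (P i)) u = 0 := fun i => by
    rcases eq_or_ne i j with rfl | hne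
    · rw [LinearMap.comp_apply, h.proj.self i u hu, hφu]
    · rw [LinearMap.comp_apply, h.proj.other i j (Ne.symm hne) u hu, map_zero]
  have key : ∀ s : Finset ι, tvec (∑ i ∈ s, φ.comp (P i)) u ∈ M := fun s => by
    induction s using Finset.induction with
    | empty => rw [Finset.sum_empty, tvec_zero_left]; exact one_mem M
    | insert a s ha ih =>
      rw [Finset.sum_insert ha, ← tvec_mul_left (hzero a)
        (by rw [LinearMap.sum_apply]; exact Finset.sum_eq_zero fun i _ => hzero i)]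
      refine mul_mem ?_ ih
      rcases eq_or_ne a j with rfl | hne
      · exact h.block_tvec hu φ (hzero a)
      · exact other a hne φ
  convert key Finset.univ using 2
  exact LinearMap.ext fun x => by simp [LinearMap.sum_apply, ← map_sum, h.proj.sum]

omit [Fintype ι] [DecidableEq ι] in
/-- transvections with centres spanning the space generate all -/
theorem all_tvec_of_centres (S : Set V) (hS : Submodule.span F S = ⊤) {v : V} (hv : v ∈ S) (hv0 : v ≠ 0)
    (h : ∀ u ∈ S, ∀ φ : Dual F V, φ u = 0 → tvec φ u ∈ M) : ∀ (φ : Dual F V) (w : V), φ w = 0 → tvec φ w ∈ M :=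
  all_of_one M (fun U hU => by
    by_cases hb : U = ⊥
    · exact Or.inl hb
    obtain ⟨x, hx, hx0⟩ := Submodule.exists_mem_ne_zero_of_ne_bot hb
    refine Or.inr (eq_top_iff.2 (hS ▸ Submodule.span_le.2 fun u hu => ?_))
    rcases eq_or_ne u 0 with rfl | hu0
    · exact zero_mem U
    by_cases hxu : x ∈ Submodule.span F {u}
    · exact (Submodule.span_singleton_le_iff_mem _ _).2 hx (span_singleton_self_inv hx0 hu0 hxu)
    obtain ⟨φ, h1, h2⟩ := exists_dual_one _ hxu
    have h0 := h2 u (Submodule.mem_span_singleton_self u)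
    have := sub_mem (hU _ (h u hu φ h0) x hx) hx
    rwa [tvec_apply h0, h1, one_smul, add_sub_cancel_left] at this) hv0 (fun φ => h v hv φ)

theorem Over.all_tvec (h : Over D P m M) (hbig : 3 ≤ m ∨ (3 ≤ Fintype.card ι ∧ ∃ δ : Fˣ, δ ≠ 1)) {g : V ≃ₗ[F] V}
    (hg : g ∈ M) (hgD : ¬ Permutes D g) : ∀ (φ : Dual F V) (w : V), φ w = 0 → tvec φ w ∈ M := by
  have hA := h.across hbig hg hgD
  obtain ⟨j, _, u, _, _, hu, hu0, _⟩ := hA
  refine all_tvec_of_centres (⋃ i, (D i : Set V)) ?_ (v := u) (Set.mem_iUnion.2 ⟨j, hu⟩) hu0 fun v hv φ hφ => ?_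
  · rw [Submodule.span_iUnion]
    simpa using h.span
  · obtain ⟨i, hi⟩ := Set.mem_iUnion.1 hv
    exact h.centre (h.across hbig hg hgD) i hi hφ

end Cfsg.Agent.Classical.Decomp
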