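import Cfsg.Agent.Classical.Decomp.Column

/-!
Inside the stabiliser of a coordinate line, modulo that line: a conjugated diagonal dilation produces
an elementary transvection.
-/

set_option autoImplicit false

namespace Cfsg.Agent.Classical.Decomp

open Module Cfsg.Agent.ClassicalMax

variable {F V : Type*} [Field F] [AddCommGroup V] [Module F V] {ι : Type*} [Fintype ι] [DecidableEq ι]
  {e : Basis ι F V} {M : Subgroup (V ≃ₗ[F] V)}

/-- elements fixing the line of `e t` which agree with an element of `M` modulo that line -/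
def lineG (e : Basis ι F V) (M : Subgroup (V ≃ₗ[F] V)) (t : ι) : Subgroup (V ≃ₗ[F] V) where
  carrier := {g | (∃ c : F, g (e t) = c • e t) ∧ ∃ y ∈ M, ∀ x, ∃ c : F, y x = g x + c • e t}
  mul_mem' {g g'} := by
    rintro ⟨⟨a, ha⟩, y, hy, hyg⟩ ⟨⟨a', ha'⟩, y', hy', hyg'⟩
    refine ⟨⟨a' * a, by rw [LinearEquiv.mul_apply, ha', map_smul, ha, smul_smul]⟩, y * y', mul_mem hy hy', fun x => ?_⟩
    obtain ⟨c, hc⟩ := hyg' x
    obtain ⟨d, hd⟩ := hyg (g' x)
    obtain ⟨k, hk⟩ := hyg (e t)
    exact ⟨d + c * (a + k), by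
      rw [LinearEquiv.mul_apply, LinearEquiv.mul_apply, hc, map_add, map_smul, hd, hk, ha]
      module⟩
  one_mem' := ⟨⟨1, (one_smul _ _).symm⟩, 1, one_mem M, fun x => ⟨0, by rw [zero_smul, add_zero]⟩⟩
  inv_mem' {g} := by
    rintro ⟨⟨a, ha⟩, y, hy, hyg⟩
    have ha0 : a ≠ 0 := fun h0 => e.ne_zero t (g.map_eq_zero_iff.1 (by rw [ha, h0, zero_smul]))
    obtain ⟨k, hk⟩ := hyg (e t)
    rw [ha, ← add_smul] at hk
    have hak : a + k ≠ 0 := fun h0 => e.ne_zero t (y.map_eq_zero_iff.1 (by rw [hk, h0, zero_smul]))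
    have hyinv : y⁻¹ (e t) = (a + k)⁻¹ • e t := by
      apply y.injective
      rw [apply_inv, map_smul, hk, smul_smul, inv_mul_cancel₀ hak, one_smul]
    refine ⟨⟨a⁻¹, ?_⟩, y⁻¹, inv_mem hy, fun x => ?_⟩
    · apply g.injective
      rw [apply_inv, map_smul, ha, smul_smul, inv_mul_cancel₀ ha0, one_smul]
    · obtain ⟨c, hc⟩ := hyg (g⁻¹ x)
      rw [apply_inv] at hc
      refine ⟨-(c * (a + k)⁻¹), ?_⟩
      have e1 := congrArg (fun v => y⁻¹ v) hc
      simp only [inv_apply, map_add, map_smul, hyinv] at e1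
      rw [e1]
      module

theorem mem_lineG_of_congr {t : ι} {g g' : V ≃ₗ[F] V} (hg : g ∈ lineG e M t) (hc : ∃ c : F, g' (e t) = c • e t)
    (h : ∀ x, ∃ c : F, g' x = g x + c • e t) : g' ∈ lineG e M t := by
  obtain ⟨-, y, hy, hyg⟩ := hg
  refine ⟨hc, y, hy, fun x => ?_⟩
  obtain ⟨c, hc⟩ := h x
  obtain ⟨d, hd⟩ := hyg x
  exact ⟨d - c, by rw [hd, hc]; module⟩

theorem mem_lineG {t : ι} {y : V ≃ₗ[F] V} (hy : y ∈ M) (hc : ∃ c : F, y (e t) = c • e t) : y ∈ lineG e M t :=
  ⟨hc, y, hy, fun x => ⟨0, by rw [zero_smul, add_zero]⟩⟩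

theorem MOver.monE_mem_lineG (h : MOver e M) {t : ι} {σ : Equiv.Perm ι} (hσ : σ t = t) (c : ι → Fˣ) :
    monE e σ c ∈ lineG e M t := by
  set P := LinearMap.det (monE e σ c).toLinearMap with hP
  have hP0 : P ≠ 0 := (monE e σ c).isUnit_det'.ne_zero
  set c' := Function.update c t (c t * (Units.mk0 P hP0)⁻¹) with hc'
  refine ⟨⟨c t, by rw [monE_basis, hσ]⟩, monE e σ c', h.stab _ (mono_monE _ _) ?_, fun x => ?_⟩
  · have hc2 : c' = fun i => c i * (if i = t then (Units.mk0 P hP0)⁻¹ else 1) := funext fun i => by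
      rcases eq_or_ne i t with rfl | hit
      · rw [hc', Function.update_self, if_pos rfl]
      · rw [hc', Function.update_of_ne hit, if_neg hit, mul_one]
    rw [det_monE, hc2]
    simp only [Units.val_mul, Finset.prod_mul_distrib, apply_ite Units.val, Units.val_one, Fintype.prod_ite_eq',
      ← mul_assoc, Units.val_inv_eq_inv_val, Units.val_mk0]
    rw [← det_monE (e := e), ← hP, mul_inv_cancel₀ hP0]
  · refine ⟨((c' t : F) - c t) * e.repr x t, ?_⟩
    refine e.repr.injective (Finsupp.ext fun j => ?_)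
    obtain ⟨i, rfl⟩ := σ.surjective j
    rw [map_add, map_smul, Finsupp.add_apply, Finsupp.smul_apply, Basis.repr_self, smul_eq_mul, repr_monE, repr_monE]
    rcases eq_or_ne i t with rfl | hit
    · rw [hσ, Finsupp.single_eq_same]; ring
    · rw [Finsupp.single_eq_of_ne (fun e' : σ i = t => hit (σ.injective (e'.trans hσ.symm))), mul_zero, add_zero, hc',
        Function.update_of_ne hit]

theorem monE_update (u : ι) (b : Fˣ) : monE e 1 (Function.update (fun _ => 1) u b) = dil (e.coord u) (e u) b := by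
  refine LinearEquiv.toLinearMap_injective (e.ext fun i => ?_)
  show monE e 1 _ (e i) = dil _ _ b (e i)
  rw [monE_basis, dil_apply (by simp), Equiv.Perm.one_apply]
  rcases eq_or_ne i u with rfl | hiu
  · rw [Function.update_self, Basis.coord_apply, Basis.repr_self, Finsupp.single_eq_same, one_smul, sub_smul, one_smul,
      add_sub_cancel]
  · rw [Function.update_of_ne hiu, Units.val_one, one_smul, Basis.coord_apply, Basis.repr_self,
      Finsupp.single_eq_of_ne hiu.symm, zero_smul, add_zero]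

theorem MOver.diag_mem (h : MOver e M) (t u : ι) (b : Fˣ) : dil (e.coord u) (e u) b ∈ lineG e M t :=
  monE_update (e := e) u b ▸ h.monE_mem_lineG rfl _

/-- all dilations on the pair `f`, `a` modulo the line of `e t` -/
structure Refl (e : Basis ι F V) (M : Subgroup (V ≃ₗ[F] V)) (t : ι) (f : Dual F V) (a : V) : Prop where
  one : f a = 1
  f_t : f (e t) = 0
  a_t : e.repr a t = 0
  mem : ∀ b : Fˣ, dil f a b ∈ lineG e M t

/-- an elementary transvection modulo the line of `e t` -/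
def HasElem (e : Basis ι F V) (M : Subgroup (V ≃ₗ[F] V)) (t : ι) : Prop :=
  ∃ (u s : ι) (c : F), c ≠ 0 ∧ u ≠ s ∧ u ≠ t ∧ s ≠ t ∧ tvec (c • e.coord u) (e s) ∈ lineG e M t

theorem dual_apply_eq_sum (φ : Dual F V) (v : V) : φ v = ∑ i, e.repr v i * φ (e i) := by
  conv_lhs => rw [← e.sum_repr v]
  rw [map_sum]
  simp

theorem Refl.hasElem_of_mismatch (h : MOver e M) {t : ι} {f : Dual F V} {a : V} (hR : Refl e M t f a) {c0 : Fˣ}
    (hc0 : c0 ≠ 1) {s : ι} (hs : e.repr a s ≠ 0 ∧ f (e s) = 0 ∨ e.repr a s = 0 ∧ f (e s) ≠ 0) :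
    HasElem e M t := by
  have hc1 : (c0 : F) - 1 ≠ 0 := sub_ne_zero.2 fun e' => hc0 (Units.val_eq_one.1 e')
  have hc2 : ((c0⁻¹ : Fˣ) : F) - 1 ≠ 0 := sub_ne_zero.2 fun e' => hc0 (inv_eq_one.1 (Units.val_eq_one.1 e'))
  have cu : ∀ u, e.coord u (e u) = 1 := fun u => by simp
  rcases hs with ⟨has, hfs⟩ | ⟨has, hfs⟩
  · have hst : s ≠ t := fun e' => has (e' ▸ hR.a_t)
    have hD := h.diag_mem t s c0
    have hconj := mul_mem (mul_mem hD (hR.mem c0⁻¹)) (inv_mem hD)
    rw [conj_dil _ hR.one] at hconj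
    have e1 : f.comp ((dil (e.coord s) (e s) c0)⁻¹ : V ≃ₗ[F] V).toLinearMap = f := LinearMap.ext fun x => by
      show f ((dil (e.coord s) (e s) c0)⁻¹ x) = f x
      rw [dil_inv (cu s), dil_apply (cu s), map_add, map_smul, map_smul, hfs, smul_zero, smul_zero, add_zero]
    have e2 : dil (e.coord s) (e s) c0 a = a + (((c0 : F) - 1) * e.repr a s) • e s := by
      rw [dil_apply (cu s), Basis.coord_apply, smul_smul, mul_comm]
    have h1 : f (a + (((c0 : F) - 1) * e.repr a s) • e s) = 1 := by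
      rw [map_add, map_smul, hfs, smul_zero, add_zero, hR.one]
    rw [e1, e2] at hconj
    set φ : Dual F V := ((((c0⁻¹ : Fˣ) : F) - 1) * (((c0 : F) - 1) * e.repr a s)) • f with hφ
    have hφs : φ (e s) = 0 := by rw [hφ, LinearMap.smul_apply, hfs, smul_zero]
    have hT : tvec φ (e s) ∈ lineG e M t := by
      have hmul := mul_mem (hR.mem c0) hconj
      convert hmul using 1
      refine LinearEquiv.ext fun x => ?_
      rw [LinearEquiv.mul_apply, tvec_apply hφs, dil_apply h1, dil_apply hR.one, hφ, map_add, map_smul, map_smul, h1]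
      simp only [LinearMap.smul_apply, smul_eq_mul, Units.val_inv_eq_inv_val]
      have := c0.ne_zero
      match_scalars <;> field_simp <;> ring
    obtain ⟨u, hu⟩ : ∃ u, φ (e u) ≠ 0 := by
      by_contra hc
      push Not at hc
      have := dual_apply_eq_sum (e := e) φ a
      rw [Finset.sum_eq_zero fun i _ => by rw [hc i, mul_zero], hφ, LinearMap.smul_apply, hR.one, smul_eq_mul,
        mul_one] at this
      exact mul_ne_zero hc2 (mul_ne_zero hc1 has) this
    have hut : u ≠ t := fun e' => hu (by rw [e', hφ, LinearMap.smul_apply, hR.f_t, smul_zero])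
    have hus : u ≠ s := fun e' => hu (e' ▸ hφs)
    have hDu := h.diag_mem t u c0
    have hT2 := mul_mem (mul_mem (mul_mem hDu hT) (inv_mem hDu)) (inv_mem hT)
    rw [conj_tvec _ hφs] at hT2
    refine ⟨u, s, (((c0⁻¹ : Fˣ) : F) - 1) * φ (e u), mul_ne_zero hc2 hu, hus, hut, hst, ?_⟩
    convert hT2 using 1
    have e3 : dil (e.coord u) (e u) c0 (e s) = e s := by
      rw [dil_apply (cu u), Basis.coord_apply, Basis.repr_self, Finsupp.single_eq_of_ne hus, zero_smul, add_zero]
    have h0 : (φ.comp ((dil (e.coord u) (e u) c0)⁻¹ : V ≃ₗ[F] V).toLinearMap) (e s) = 0 := by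
      show φ ((dil (e.coord u) (e u) c0)⁻¹ (e s)) = 0
      conv_lhs => arg 2; arg 2; rw [← e3]
      rw [inv_apply, hφs]
    rw [e3, tvec_inv hφs, tvec_mul_left h0 (by rw [LinearMap.neg_apply, hφs, neg_zero])]
    congr 1
    refine LinearMap.ext fun x => ?_
    rw [LinearMap.add_apply, LinearMap.neg_apply, LinearMap.comp_apply, LinearEquiv.coe_coe, dil_inv (cu u),
      dil_apply (cu u)]
    simp
    ring
  · have hst : s ≠ t := fun e' => hfs (e' ▸ hR.f_t)
    have hD := h.diag_mem t s c0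
    have hconj := mul_mem (mul_mem hD (hR.mem c0⁻¹)) (inv_mem hD)
    rw [conj_dil _ hR.one] at hconj
    set f' := f.comp ((dil (e.coord s) (e s) c0)⁻¹ : V ≃ₗ[F] V).toLinearMap with hf'
    have e2 : dil (e.coord s) (e s) c0 a = a := by
      rw [dil_apply (cu s), Basis.coord_apply, has, zero_smul, add_zero]
    have hf'x : ∀ x, f' x = f x + ((((c0⁻¹ : Fˣ) : F) - 1) * f (e s)) * e.repr x s := fun x => by
      rw [hf', LinearMap.comp_apply, LinearEquiv.coe_coe, dil_inv (cu s), dil_apply (cu s), map_add, map_smul,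
        map_smul, Basis.coord_apply, smul_eq_mul, smul_eq_mul]
      ring
    have h1 : f' a = 1 := by rw [hf'x, has, mul_zero, add_zero, hR.one]
    rw [e2] at hconj
    set κ : F := -(((c0 : F) - 1) * ((((c0⁻¹ : Fˣ) : F) - 1) * f (e s))) with hκ
    have hκ0 : κ ≠ 0 := neg_ne_zero.2 (mul_ne_zero hc1 (mul_ne_zero hc2 hfs))
    have hsa : (κ • e.coord s) a = 0 := by rw [LinearMap.smul_apply, Basis.coord_apply, has, smul_zero]
    have hT : tvec (κ • e.coord s) a ∈ lineG e M t := by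
      have hmul := mul_mem (hR.mem c0) hconj
      convert hmul using 1
      refine LinearEquiv.ext fun x => ?_
      rw [LinearEquiv.mul_apply, tvec_apply hsa, dil_apply h1, dil_apply hR.one, map_add, map_smul, map_smul, hR.one,
        hf'x, hκ]
      simp only [LinearMap.smul_apply, smul_eq_mul, Units.val_inv_eq_inv_val, Basis.coord_apply]
      have := c0.ne_zero
      match_scalars <;> field_simp <;> ring
    obtain ⟨u, hu⟩ : ∃ u, e.repr a u ≠ 0 := by
      by_contra hc
      push Not at hc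
      have := dual_apply_eq_sum (e := e) f a
      rw [Finset.sum_eq_zero fun i _ => by rw [hc i, zero_mul], hR.one] at this
      exact one_ne_zero this
    have hut : u ≠ t := fun e' => hu (e' ▸ hR.a_t)
    have hus : u ≠ s := fun e' => hu (e' ▸ has)
    have hDu := h.diag_mem t u c0
    have hT2 := mul_mem (mul_mem (mul_mem hDu hT) (inv_mem hDu)) (inv_mem hT)
    rw [conj_tvec _ hsa] at hT2
    refine ⟨s, u, κ * (((c0 : F) - 1) * e.repr a u), mul_ne_zero hκ0 (mul_ne_zero hc1 hu), hus.symm, hst, hut, ?_⟩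
    convert hT2 using 1
    have e3 : (κ • e.coord s).comp ((dil (e.coord u) (e u) c0)⁻¹ : V ≃ₗ[F] V).toLinearMap = κ • e.coord s :=
      LinearMap.ext fun x => by
        rw [LinearMap.comp_apply, LinearEquiv.coe_coe, dil_inv (cu u), dil_apply (cu u)]
        simp [hus]
    have e4 : (κ • e.coord s) (dil (e.coord u) (e u) c0 a) = 0 := by
      rw [dil_apply (cu u)]
      simp [has, hus]
    rw [e3, mul_comm κ, mul_smul, tvec_smul]
    refine LinearEquiv.ext fun x => ?_
    rw [tvec_inv hsa, LinearEquiv.mul_apply, tvec_apply (φ := κ • e.coord s) (v := dil (e.coord u) (e u) c0 a) e4,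
      tvec_apply (φ := -(κ • e.coord s)) (v := a) (by rw [LinearMap.neg_apply, hsa, neg_zero]),
      tvec_apply (φ := κ • e.coord s) (v := ((↑c0 - 1) * (e.repr a) u) • e u) (by simp [hus]), dil_apply (cu u)]
    simp [has, map_add]
    module

theorem five_key : ∀ φ : ZMod 5, φ ≠ 1 → 2 * φ ≠ 1 → ∃ β β' : ZMod 5, β * β' = 1 ∧ β ≠ 1 ∧
    1 + (β - 1) * φ ≠ 0 ∧ (2 - β - β') * (1 - φ) ≠ 1 := by decide

theorem exists_beta [Fintype F] (hq : 5 ≤ Fintype.card F) {Φ : F} (h1 : Φ ≠ 1) (h5 : Fintype.card F = 5 → 2 * Φ ≠ 1) :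
    ∃ β : F, β ≠ 0 ∧ β ≠ 1 ∧ 1 + (β - 1) * Φ ≠ 0 ∧ (2 - β - β⁻¹) * (1 - Φ) ≠ 1 := by
  classical
  by_cases hq5 : Fintype.card F = 5
  · haveI : Fact (Nat.Prime 5) := ⟨by norm_num⟩

    obtain ⟨ι5⟩ : Nonempty (ZMod 5 ≃+* F) := ⟨ZMod.ringEquivOfPrime F (by norm_num) hq5⟩
    obtain ⟨φ, rfl⟩ := ι5.surjective Φ
    obtain ⟨β, β', e1, e2, e3, e4⟩ := five_key φ (fun e' => h1 (by rw [e', map_one]))
      (fun e' => h5 hq5 (by rw [← map_ofNat ι5 2, ← map_mul, e', map_one]))
    refine ⟨ι5 β, ?_, fun e' => e2 (ι5.injective (e'.trans ι5.map_one.symm)), fun e' => e3 (ι5.injective ?_),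
      fun e' => e4 (ι5.injective ?_)⟩
    · intro e'
      rw [map_eq_zero_iff _ ι5.injective] at e'
      rw [e', zero_mul] at e1
      exact zero_ne_one e1
    · rw [map_zero, ← e']; simp
    · rw [map_one, ← e', inv_eq_of_mul_eq_one_right (show ι5 β * ι5 β' = 1 by rw [← map_mul, e1, map_one]),
        map_mul, map_sub, map_sub, map_sub, map_one, map_ofNat]
  · set B := Finset.univ \ ({0, 1, 1 - Φ⁻¹} : Finset F) with hB
    have hBc : 2 < B.card := by
      have := Finset.le_card_sdiff ({0, 1, 1 - Φ⁻¹} : Finset F) Finset.univ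
      have h3 := Finset.card_le_three (a := (0 : F)) (b := 1) (c := 1 - Φ⁻¹)
      rw [← hB, Finset.card_univ] at this
      omega
    by_contra hc
    push Not at hc
    have key : ∀ β ∈ B, β ≠ 0 ∧ (2 - β - β⁻¹) * (1 - Φ) = 1 := fun β hβ => by
      simp only [hB, Finset.mem_sdiff, Finset.mem_univ, Finset.mem_insert, Finset.mem_singleton, not_or, true_and] at hβ
      refine ⟨hβ.1, hc β hβ.1 hβ.2.1 fun e' => hβ.2.2 ?_⟩
      have hΦ : Φ ≠ 0 := fun h0 => by rw [h0, mul_zero, add_zero] at e'; exact one_ne_zero e'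
      field_simp
      linear_combination e'
    have hp : ∀ β ∈ B, ∀ β' ∈ B, β ≠ β' → β * β' = 1 := fun β hβ β' hβ' hne => by
      obtain ⟨n1, k1⟩ := key β hβ
      obtain ⟨n2, k2⟩ := key β' hβ'
      have e1 : (β - β') * (β * β' - 1) = 0 := by
        have e2 : β + β⁻¹ = β' + β'⁻¹ := by
          have := mul_right_cancel₀ (sub_ne_zero.2 (Ne.symm h1)) (k1.trans k2.symm)
          linear_combination -this
        field_simp at e2
        linear_combination e2
      exact sub_eq_zero.1 ((mul_eq_zero.1 e1).resolve_left (sub_ne_zero.2 hne))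
    obtain ⟨b1, b2, b3, m1, m2, m3, n12, n13, n23⟩ := Finset.two_lt_card_iff.1 hBc
    exact n23 (mul_left_cancel₀ (key b1 m1).1 ((hp b1 m1 b2 m2 n12).trans (hp b1 m1 b3 m3 n13).symm))

/-- a conjugate of a dilation pair by one of its dilations -/
theorem Refl.conj (h : MOver e M) {t : ι} {f f' : Dual F V} {a a' : V} (hR : Refl e M t f a) (hR' : Refl e M t f' a')
    (β : Fˣ) : Refl e M t (f'.comp ((dil f a β)⁻¹ : V ≃ₗ[F] V).toLinearMap) (dil f a β a') where
  one := by
    show f' ((dil f a β)⁻¹ (dil f a β a')) = 1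
    rw [inv_apply, hR'.one]
  f_t := by
    show f' ((dil f a β)⁻¹ (e t)) = 0
    rw [dil_inv hR.one, dil_apply hR.one, hR.f_t, zero_smul, add_zero, hR'.f_t]
  a_t := by
    rw [dil_apply hR.one]
    simp [hR.a_t, hR'.a_t]
  mem b := by
    rw [← conj_dil _ hR'.one]
    exact mul_mem (mul_mem (hR.mem β) (hR'.mem b)) (inv_mem (hR.mem β))

theorem Refl.map_monE (h : MOver e M) {t : ι} {f : Dual F V} {a : V} (hR : Refl e M t f a) {σ : Equiv.Perm ι}
    (hσ : σ t = t) (c : ι → Fˣ) :
    Refl e M t (f.comp ((monE e σ c)⁻¹ : V ≃ₗ[F] V).toLinearMap) (monE e σ c a) where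
  one := by
    show f ((monE e σ c)⁻¹ (monE e σ c a)) = 1
    rw [inv_apply, hR.one]
  f_t := by
    show f ((monE e σ c)⁻¹ (e t)) = 0
    rw [monE_inv, monE_basis, map_smul, show σ⁻¹ t = t by rw [Equiv.Perm.inv_eq_iff_eq, hσ], hR.f_t, smul_zero]
  a_t := by
    conv_lhs => arg 2; rw [← hσ]
    rw [repr_monE, hR.a_t, mul_zero]
  mem b := by
    rw [← conj_dil _ hR.one]
    exact mul_mem (mul_mem (h.monE_mem_lineG hσ c) (hR.mem b)) (inv_mem (h.monE_mem_lineG hσ c))

theorem Refl.hasElem_of_subset [Fintype F] (h : MOver e M) (hq : 5 ≤ Fintype.card F) {t : ι} {f : Dual F V} {a : V}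
    (hR : Refl e M t f a) {c0 : Fˣ} (hc0 : c0 ≠ 1) (U : Finset ι) {s : ι} (hs : s ∈ U) (has : e.repr a s ≠ 0)
    (h1 : ∑ i ∈ U, e.repr a i * f (e i) ≠ 1)
    (h5 : Fintype.card F = 5 → 2 * (∑ i ∈ U, e.repr a i * f (e i)) ≠ 1) : HasElem e M t := by
  by_cases hfs : f (e s) = 0
  · exact hR.hasElem_of_mismatch h hc0 (Or.inl ⟨has, hfs⟩)
  set Φ := ∑ i ∈ U, e.repr a i * f (e i) with hΦ
  obtain ⟨β, hb0, hb1, hden, hN⟩ := exists_beta hq h1 h5
  set c : F := -(β - 1) * (1 - Φ) / (1 + (β - 1) * Φ) with hc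
  have hcne : c ≠ 0 := div_ne_zero (mul_ne_zero (neg_ne_zero.2 (sub_ne_zero.2 hb1)) (sub_ne_zero.2 (Ne.symm h1))) hden
  set γ : ι → Fˣ := fun i => if i ∈ U then Units.mk0 c hcne else 1 with hγ
  have hR' := hR.map_monE h (σ := 1) rfl γ
  set a' := monE e 1 γ a with ha'
  set f' := f.comp ((monE e 1 γ)⁻¹ : V ≃ₗ[F] V).toLinearMap with hf'
  have hai : ∀ i, e.repr a' i = (if i ∈ U then c else 1) * e.repr a i := fun i => by
    rw [ha', show i = (1 : Equiv.Perm ι) i from rfl, repr_monE, Equiv.Perm.one_apply, hγ, apply_ite Units.val,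
      Units.val_mk0, Units.val_one]
  have hfi : ∀ i, f' (e i) = (if i ∈ U then c⁻¹ else 1) * f (e i) := fun i => by
    rw [hf', LinearMap.comp_apply, LinearEquiv.coe_coe, monE_inv, monE_basis, map_smul, smul_eq_mul, inv_one,
      Equiv.Perm.one_apply, Units.val_inv_eq_inv_val, hγ, apply_ite Units.val, Units.val_mk0, Units.val_one]
    split <;> simp
  have split_sum : ∀ (g : ι → F) (k : F), ∑ i, (if i ∈ U then k else 1) * g i = ∑ i, g i + (k - 1) * ∑ i ∈ U, g i := by
    intro g k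
    rw [Finset.mul_sum, ← Fintype.sum_ite_mem U, ← Finset.sum_add_distrib]
    refine Finset.sum_congr rfl fun i _ => ?_
    split <;> ring
  have efa' : f a' = 1 + (c - 1) * Φ := by
    refine (dual_apply_eq_sum (e := e) f a').trans ?_
    simp_rw [hai, mul_assoc]
    rw [split_sum, ← dual_apply_eq_sum, hR.one, hΦ]
  have ef'a : f' a = 1 + (c⁻¹ - 1) * Φ := by
    refine (dual_apply_eq_sum (e := e) f' a).trans ?_
    simp_rw [hfi, mul_left_comm (e.repr a _)]
    rw [split_sum, ← dual_apply_eq_sum, hR.one, hΦ]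
  refine (hR.conj h hR' (Units.mk0 β hb0)).hasElem_of_mismatch h hc0 (s := s) (Or.inr ⟨?_, ?_⟩)
  · rw [dil_apply hR.one, efa', map_add, map_smul, map_smul, Finsupp.add_apply, Finsupp.smul_apply,
      Finsupp.smul_apply, smul_eq_mul, smul_eq_mul, hai s, if_pos hs, Units.val_mk0]
    have e1 : c * (1 + (β - 1) * Φ) = -(β - 1) * (1 - Φ) := div_mul_cancel₀ _ hden
    linear_combination e.repr a s * e1
  · show f' ((dil f a (Units.mk0 β hb0))⁻¹ (e s)) ≠ 0
    rw [dil_inv hR.one, dil_apply hR.one, map_add, map_smul, map_smul, ef'a, hfi s, if_pos hs, smul_eq_mul,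
      smul_eq_mul, Units.val_inv_eq_inv_val, Units.val_mk0]
    intro e0
    have e1 : c * (1 + (β - 1) * Φ) = -(β - 1) * (1 - Φ) := div_mul_cancel₀ _ hden
    have e2 : c⁻¹ * (1 + (β⁻¹ - 1) * Φ) = -(β⁻¹ - 1) * (1 - Φ) := by
      refine mul_left_cancel₀ hfs ?_
      linear_combination e0
    have e3 : c⁻¹ * c = 1 := inv_mul_cancel₀ hcne
    have e4 : β * β⁻¹ = 1 := mul_inv_cancel₀ hb0
    refine hN ?_
    linear_combination (1 + (β - 1) * Φ) * (1 + (β⁻¹ - 1) * Φ) * e3 - c * (1 + (β - 1) * Φ) * e2 +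
      (β⁻¹ - 1) * (1 - Φ) * e1 - ((1 - Φ) ^ 2 - Φ ^ 2) * e4

theorem Refl.hasElem [Fintype F] (h : MOver e M) (hq : 5 ≤ Fintype.card F) {t : ι} {f : Dual F V} {a : V}
    (hR : Refl e M t f a) {i j : ι} (hij : i ≠ j) (hi : e.repr a i ≠ 0) (hj : e.repr a j ≠ 0) : HasElem e M t := by
  classical
  obtain ⟨c0, hb2, -⟩ := exists_unit_b hq
  have hc0 : c0 ≠ 1 := fun e' => hb2 (by rw [e', one_pow])
  by_contra hE
  set φ : ι → F := fun k => e.repr a k * f (e k) with hφ
  have hsum : ∑ k, φ k = 1 := by rw [← hR.one, dual_apply_eq_sum (e := e) f a]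
  have bad : ∀ U : Finset ι, ∀ s ∈ U, e.repr a s ≠ 0 →
      ∑ k ∈ U, φ k = 1 ∨ (Fintype.card F = 5 ∧ 2 * ∑ k ∈ U, φ k = 1) := fun U s hs has => by
    by_contra hc
    push Not at hc
    exact hE (hR.hasElem_of_subset h hq hc0 U hs has hc.1 hc.2)
  have single : ∀ k, e.repr a k ≠ 0 → φ k = 1 ∨ (Fintype.card F = 5 ∧ 2 * φ k = 1) := fun k hk => by
    have := bad {k} k (Finset.mem_singleton_self k) hk
    rwa [Finset.sum_singleton] at this
  by_cases h5 : Fintype.card F = 5
  swap
  · have e1 := (single i hi).resolve_right fun e' => h5 e'.1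
    have e2 := (single j hj).resolve_right fun e' => h5 e'.1
    have := (bad {i, j} i (Finset.mem_insert_self ..) hi).resolve_right fun e' => h5 e'.1
    rw [Finset.sum_pair hij, e1, e2] at this
    exact one_ne_zero (by linear_combination this)
  have hF5 : (5 : F) = 0 := by
    have := FiniteField.cast_card_eq_zero F
    rw [h5] at this; exact_mod_cast this
  have hnum : ∀ n : F, n = 1 ∨ n = 2 ∨ n = 3 ∨ n = 4 → n ≠ 0 := by
    obtain ⟨ι5⟩ : Nonempty (ZMod 5 ≃+* F) := ⟨ZMod.ringEquivOfPrime F (by norm_num) h5⟩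
    intro n hn e'
    obtain ⟨m, rfl⟩ := ι5.surjective n
    rw [map_eq_zero_iff _ ι5.injective] at e'
    subst e'
    rw [map_zero] at hn
    have key : ∀ k : ZMod 5, ι5 k = 0 → k = 0 := fun k hk => ι5.injective (hk.trans ι5.map_zero.symm)
    rcases hn with h' | h' | h' | h'
    · exact zero_ne_one h'
    · exact absurd (key 2 (by rw [map_ofNat, h'])) (by decide)
    · exact absurd (key 3 (by rw [map_ofNat, h'])) (by decide)
    · exact absurd (key 4 (by rw [map_ofNat, h'])) (by decide)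
  have three : ∀ k, e.repr a k ≠ 0 → φ k = 3 := fun k hk => by
    rcases single k hk with e1 | ⟨-, e1⟩
    · exfalso
      obtain ⟨l, hlk, hl⟩ : ∃ l, l ≠ k ∧ e.repr a l ≠ 0 := by
        rcases eq_or_ne i k with rfl | hne
        exacts [⟨j, hij.symm, hj⟩, ⟨i, hne, hi⟩]
      have hp := bad {k, l} k (Finset.mem_insert_self ..) hk
      rw [Finset.sum_pair hlk.symm, e1] at hp
      rcases single l hl with e2 | ⟨-, e2⟩ <;> rcases hp with e3 | ⟨-, e3⟩
      · exact hnum 1 (by tauto) (by linear_combination e3 - e2)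
      · exact hnum 3 (by tauto) (by linear_combination e3 - 2 * e2)
      · exact hnum 1 (by tauto) (by linear_combination 2 * e3 - e2)
      · exact hnum 2 (by tauto) (by linear_combination e3 - e2)
    · linear_combination 3 * e1 - φ k * hF5
  have hsupp : ∀ k, k ≠ i → k ≠ j → e.repr a k = 0 := fun k hki hkj => by
    by_contra hk
    have := bad {i, j, k} i (Finset.mem_insert_self ..) hi
    rw [Finset.sum_insert (by simp [hij, Ne.symm hki]), Finset.sum_pair (Ne.symm hkj), three i hi, three j hj,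
      three k hk] at this
    rcases this with e1 | ⟨-, e1⟩
    · exact hnum 3 (by tauto) (by linear_combination e1 - hF5)
    · exact hnum 2 (by tauto) (by linear_combination e1 - 3 * hF5)
  have hit : i ≠ t := fun e' => hi (e' ▸ hR.a_t)
  have hjt : j ≠ t := fun e' => hj (e' ▸ hR.a_t)
  obtain ⟨l, -, hl⟩ := Finset.exists_mem_notMem_of_card_lt_card (s := ({i, j, t} : Finset ι)) (t := Finset.univ)
    (Finset.card_le_three.trans_lt (by rw [Finset.card_univ]; have := h.large; omega))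
  simp only [Finset.mem_insert, Finset.mem_singleton, not_or] at hl
  set π := Equiv.swap i j * Equiv.swap j l with hπ
  have hπi : π i = j := by
    rw [hπ, Equiv.Perm.mul_apply, Equiv.swap_apply_of_ne_of_ne hij (Ne.symm hl.1), Equiv.swap_apply_left]
  have hπj : π j = l := by
    rw [hπ, Equiv.Perm.mul_apply, Equiv.swap_apply_left, Equiv.swap_apply_of_ne_of_ne hl.1 hl.2.1]
  have hπt : π t = t := by
    rw [hπ, Equiv.Perm.mul_apply, Equiv.swap_apply_of_ne_of_ne hjt.symm (Ne.symm hl.2.2),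
      Equiv.swap_apply_of_ne_of_ne hit.symm hjt.symm]
  have hπl : π l = i := by
    rw [hπ, Equiv.Perm.mul_apply, Equiv.swap_apply_right, Equiv.swap_apply_right]
  have hR' := hR.map_monE h hπt (fun _ => 1)
  set a' := monE e π (fun _ => 1) a with ha'
  set f' := f.comp ((monE e π fun _ => (1 : Fˣ))⁻¹ : V ≃ₗ[F] V).toLinearMap with hf'
  have hak : ∀ k, e.repr a' (π k) = e.repr a k := fun k => by rw [ha', repr_monE, Units.val_one, one_mul]
  have hfk : ∀ k, f' (e (π k)) = f (e k) := fun k => by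
    rw [hf', LinearMap.comp_apply, LinearEquiv.coe_coe]
    congr 1
    apply (monE e π fun _ => (1 : Fˣ)).injective
    rw [apply_inv, monE_basis, Units.val_one, one_smul]
  have hfa' : f a' = e.repr a i * f (e j) := by
    rw [dual_apply_eq_sum (e := e) f a', ← Equiv.sum_comp π fun k => e.repr a' k * f (e k)]
    simp only [hak]
    rw [Finset.sum_eq_single i (fun k _ hk => ?_) (by simp), hπi]
    by_cases hkj : k = j
    · subst hkj
      rw [hπj]
      have : f (e l) = 0 := by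
        by_contra hfl
        exact hE (hR.hasElem_of_mismatch h hc0 (Or.inr ⟨hsupp l hl.1 hl.2.1, hfl⟩))
      rw [this, mul_zero]
    · rw [hsupp k hk hkj, zero_mul]
  have hf'a : f' a = e.repr a j * f (e i) := by
    rw [dual_apply_eq_sum (e := e) f' a, ← Equiv.sum_comp π fun k => e.repr a k * f' (e k)]
    simp only [hfk]
    rw [Finset.sum_eq_single i (fun k _ hk => ?_) (by simp), hπi]
    by_cases hkj : k = j
    · subst hkj
      rw [hπj, hsupp l hl.1 hl.2.1, zero_mul]
    · have : e.repr a (π k) = 0 ∨ f (e k) = 0 := by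
        by_cases hkl : k = l
        · right
          by_contra hfl
          exact hE (hR.hasElem_of_mismatch h hc0 (Or.inr ⟨hkl ▸ hsupp l hl.1 hl.2.1, hfl⟩))
        · refine Or.inl (hsupp _ (fun e' => hkl (π.injective (e'.trans hπl.symm))) fun e' => hk (π.injective (e'.trans hπi.symm)))
      rcases this with e1 | e1 <;> rw [e1] <;> ring
  have h20 : (2 : F) ≠ 0 := hnum 2 (by tauto)
  have hR'' := hR.conj h hR' (Units.mk0 2 h20)
  have e1 : e.repr (dil f a (Units.mk0 2 h20) a') j = 4 * e.repr a i := by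
    rw [dil_apply hR.one, hfa', map_add, map_smul, map_smul, Finsupp.add_apply, Finsupp.smul_apply, Finsupp.smul_apply,
      ← hπi, hak, hπi, smul_eq_mul, smul_eq_mul, Units.val_mk0]
    linear_combination e.repr a i * three j hj
  have e2 : (f'.comp ((dil f a (Units.mk0 2 h20))⁻¹ : V ≃ₗ[F] V).toLinearMap) (e j) = 2 * f (e i) := by
    rw [LinearMap.comp_apply, LinearEquiv.coe_coe, dil_inv hR.one, dil_apply hR.one, map_add, map_smul, map_smul, hf'a,
      ← hπi, hfk, hπi, smul_eq_mul, smul_eq_mul, Units.val_inv_eq_inv_val, Units.val_mk0,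
      show (2 : F)⁻¹ = 3 from inv_eq_of_mul_eq_one_right (by linear_combination hF5)]
    linear_combination 2 * f (e i) * three j hj + f (e i) * hF5
  have e3 : e.repr (dil f a (Units.mk0 2 h20) a') j *
      (f'.comp ((dil f a (Units.mk0 2 h20))⁻¹ : V ≃ₗ[F] V).toLinearMap) (e j) = 4 := by
    rw [e1, e2]; linear_combination 8 * three i hi + 4 * hF5
  refine hE (hR''.hasElem_of_subset h hq hc0 {j} (Finset.mem_singleton_self j) (by
    rw [e1]; exact mul_ne_zero (hnum 4 (by tauto)) hi) ?_ fun _ => ?_)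
  · rw [Finset.sum_singleton, e3]
    intro e'; exact hnum 3 (by tauto) (by linear_combination e')
  · rw [Finset.sum_singleton, e3]
    intro e'; exact hnum 2 (by tauto) (by linear_combination e' - hF5)

end Cfsg.Agent.Classical.Decomp
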