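import Cfsg.Agent.Classical.Decomp.Full
import Cfsg.Agent.Classical.Decomp.Reflect
import Cfsg.Agent.Classical.Decomp.MultiBlock

/-!
Overgroups of the monomial group of determinant one contain every transvection.
-/

set_option autoImplicit false

namespace Cfsg.Agent.Classical.Decomp

open Module Cfsg.Agent.ClassicalMax

variable {F V : Type*} [Field F] [AddCommGroup V] [Module F V] {ι : Type*} [Fintype ι] [DecidableEq ι]
  {e : Basis ι F V} {M : Subgroup (V ≃ₗ[F] V)}

theorem eq_tvec (k : V ≃ₗ[F] V) {t : ι} (h : ∀ x, ∃ c : F, k x = x + c • e t)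
    (hdet : LinearMap.det k.toLinearMap = 1) : ∃ ρ : Dual F V, ρ (e t) = 0 ∧ k = tvec ρ (e t) := by
  set ρ : Dual F V := (e.coord t).comp (k.toLinearMap - LinearMap.id) with hρ
  have hk : ∀ x, k x = x + ρ x • e t := fun x => by
    obtain ⟨c, hc⟩ := h x
    rw [hρ, LinearMap.comp_apply, LinearMap.sub_apply, LinearMap.id_apply, LinearEquiv.coe_coe, hc, add_sub_cancel_left,
      Basis.coord_apply, map_smul, Finsupp.smul_apply, Basis.repr_self, Finsupp.single_eq_same, smul_eq_mul, mul_one]
  haveI : FiniteDimensional F V := Module.Finite.of_basis e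
  have h0 : ρ (e t) = 0 := by
    rw [show k.toLinearMap = LinearMap.transvection ρ (e t) from LinearMap.ext hk, LinearMap.transvection.det] at hdet
    linear_combination hdet
  exact ⟨ρ, h0, LinearEquiv.ext fun x => by rw [hk, tvec_apply h0]⟩

theorem MOver.hasFix [Fintype F] (h : MOver e M) (h6 : 6 ≤ Fintype.card ι) (hq : 5 ≤ Fintype.card F)
    {x : V ≃ₗ[F] V} (hx : x ∈ M) (hn : ¬ Mono e x) : HasFix e M := by
  classical
  obtain ⟨b, hb2, hb3⟩ := exists_unit_b hq
  by_contra hc
  exact hc (h.hasFix_of_cols (fun y hy hyn s p q hpq hp hq' => hc (h.two_zeros h6 hy hyn hpq hp hq' hb2 hb3)) h6 hx hn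
    hb2 hb3)

theorem MOver.single_centre [Fintype F] (h : MOver e M) (hdetM : ∀ g ∈ M, LinearMap.det g.toLinearMap = 1)
    (hq : 5 ≤ Fintype.card F) (hfix : HasFix e M) :
    ∃ (s : ι) (φ : Dual F V), φ (e s) = 0 ∧ φ ≠ 0 ∧ tvec φ (e s) ∈ M := by
  classical
  haveI : FiniteDimensional F V := Module.Finite.of_basis e
  obtain ⟨b, hb2, hb3⟩ := exists_unit_b hq
  obtain ⟨t, y, hy, hyn, a, ha⟩ := hfix
  have ha0 : a ≠ 0 := fun h0 => e.ne_zero t (y.map_eq_zero_iff.1 (by rw [ha, h0, zero_smul]))
  by_cases hall : ∀ u, u ≠ t → ∃ j, ∀ i, i ≠ t → i ≠ j → e.repr (y (e u)) i = 0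
  · choose! τ hτ using hall
    have hne : ∀ u, u ≠ t → τ u ≠ t ∧ e.repr (y (e u)) (τ u) ≠ 0 := fun u hu => by
      have key : ¬ ∀ i, i ≠ t → e.repr (y (e u)) i = 0 := fun h0 => by
        have h1 := repr_eq_single (v := y (e u)) (p := t) h0
        have : y (e u - (e.repr (y (e u)) t / a) • e t) = 0 := by
          rw [map_sub, map_smul, ha, smul_smul, div_mul_cancel₀ _ ha0, ← h1, sub_self]
        have h2 := congrArg (fun v => e.repr v u) (y.map_eq_zero_iff.1 this)
        simp [hu.symm] at h2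
      refine ⟨fun e' => key fun i hi => hτ u hu i hi (e' ▸ hi), fun e' => key fun i hi => ?_⟩
      exact (eq_or_ne i (τ u)).elim (fun e'' => e'' ▸ e') (hτ u hu i hi)
    have hsplit : ∀ u, u ≠ t → y (e u) = e.repr (y (e u)) (τ u) • e (τ u) + e.repr (y (e u)) t • e t := fun u hu => by
      conv_lhs => rw [← e.sum_repr (y (e u))]
      rw [Fintype.sum_eq_add (τ u) t (hne u hu).1 fun i hi => by rw [hτ u hu i hi.2 hi.1, zero_smul]]
    let σf : ι → ι := fun u => if u = t then t else τ u
    have hinj : Function.Injective σf := fun u u' e' => by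
      simp only [σf] at e'
      split_ifs at e' with h1 h2 h2
      · rw [h1, h2]
      · exact absurd e'.symm (hne u' h2).1
      · exact absurd e' (hne u h1).1
      · by_contra hne'
        have eu := hsplit u h1
        have eu' := hsplit u' h2
        rw [← e'] at eu'
        set cu := e.repr (y (e u)) (τ u)
        set cu' := e.repr (y (e u')) (τ u)
        set ru := e.repr (y (e u)) t
        set ru' := e.repr (y (e u')) t
        have : y (cu' • e u - cu • e u' - ((cu' * ru - cu * ru') / a) • e t) = 0 := by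
          rw [map_sub, map_sub, map_smul, map_smul, map_smul, eu, eu', ha, smul_smul, div_mul_cancel₀ _ ha0]
          module
        have h3 := congrArg (fun v => e.repr v u') (y.map_eq_zero_iff.1 this)
        simp [Ne.symm hne', hne', h2, Ne.symm h2] at h3
        exact (hne u h1).2 h3
    let cf : ι → Fˣ := fun u => if hu : u = t then Units.mk0 a ha0 else Units.mk0 _ (hne u hu).2
    set h0 := monE e (Equiv.ofBijective σf ⟨hinj, Finite.injective_iff_surjective.1 hinj⟩) cf with hh0
    have hb : ∀ u, ∃ c : F, y (e u) = h0 (e u) + c • e t := fun u => by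
      rw [hh0, monE_basis]
      show ∃ c : F, y (e u) = (cf u : F) • e (σf u) + c • e t
      by_cases hu : u = t
      · subst hu
        exact ⟨0, by simp [cf, σf, ha]⟩
      · exact ⟨e.repr (y (e u)) t, by simp only [cf, σf, dif_neg hu, if_neg hu, Units.val_mk0]; exact hsplit u hu⟩
    have h0t : h0 (e t) = a • e t := by
      rw [hh0, monE_basis]
      show (cf t : F) • e (σf t) = a • e t
      simp [cf, σf]
    have h0it : h0⁻¹ (e t) = a⁻¹ • e t := by
      apply h0.injective
      rw [apply_inv, map_smul, h0t, smul_smul, inv_mul_cancel₀ ha0, one_smul]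
    set ρ : Dual F V := (e.coord t).comp ((h0⁻¹ * y).toLinearMap - LinearMap.id) with hρ
    have hk : ∀ v, (h0⁻¹ * y) v = v + ρ v • e t := by
      have : (h0⁻¹ * y).toLinearMap = LinearMap.id + ρ.smulRight (e t) := e.ext fun u => by
        obtain ⟨c, hc⟩ := hb u
        rw [LinearEquiv.coe_coe, LinearMap.add_apply, LinearMap.id_apply, LinearMap.smulRight_apply, hρ,
          LinearMap.comp_apply, LinearMap.sub_apply, LinearMap.id_apply, LinearEquiv.coe_coe, LinearEquiv.mul_apply,
          hc, map_add, inv_apply, add_sub_cancel_left, map_smul, h0it]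
        simp [smul_smul]
      exact fun v => LinearMap.congr_fun this v
    have hρt : ρ (e t) = 0 := by
      rw [hρ, LinearMap.comp_apply, LinearMap.sub_apply, LinearMap.id_apply, LinearEquiv.coe_coe, LinearEquiv.mul_apply,
        ha, map_smul, h0it, smul_smul, mul_inv_cancel₀ ha0, one_smul, sub_self, map_zero]
    have hkt : h0⁻¹ * y = tvec ρ (e t) := LinearEquiv.ext fun v => by rw [hk, tvec_apply hρt]
    have hdet : LinearMap.det h0.toLinearMap = 1 := by
      have e1 := det_mul h0 (tvec ρ (e t))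
      rw [← hkt, mul_inv_cancel_left, hdetM y hy, hkt, det_tvec, mul_one] at e1
      exact e1.symm
    refine ⟨t, ρ, hρt, fun e0 => hyn ?_, hkt ▸ mul_mem (inv_mem (h.stab _ (mono_monE _ _) hdet)) hy⟩
    rw [e0, tvec_zero_left] at hkt
    rw [show y = h0 from (inv_mul_eq_one.1 hkt).symm]
    exact mono_monE _ _
  push Not at hall
  obtain ⟨u, hut, hu⟩ := hall
  obtain ⟨i, hit, -, hi⟩ := hu t
  obtain ⟨j, hjt, hji, hj⟩ := hu i
  set f : Dual F V := (e.coord u).comp (y⁻¹ : V ≃ₗ[F] V).toLinearMap with hf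
  set w := y (e u) - e.repr (y (e u)) t • e t with hw
  have hyit : y⁻¹ (e t) = a⁻¹ • e t := by
    apply y.injective
    rw [apply_inv, map_smul, ha, smul_smul, inv_mul_cancel₀ ha0, one_smul]
  have hft : f (e t) = 0 := by
    rw [hf, LinearMap.comp_apply, LinearEquiv.coe_coe, hyit]; simp [hut]
  have hfu : f (y (e u)) = 1 := by
    rw [hf, LinearMap.comp_apply, LinearEquiv.coe_coe, inv_apply]; simp
  have hfw : f w = 1 := by rw [hw, map_sub, map_smul, hft, smul_zero, sub_zero, hfu]
  have hR : Refl e M t f w := ⟨hfw, hft, by simp [hw], fun c => by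
    have hyG := mem_lineG hy ⟨a, ha⟩
    have := mul_mem (mul_mem hyG (h.diag_mem t u c)) (inv_mem hyG)
    rw [conj_dil _ (by simp), ← hf] at this
    refine mem_lineG_of_congr this ⟨1, by rw [dil_apply hfw, hft, zero_smul, add_zero, one_smul]⟩ fun v => ?_
    refine ⟨-(f v * (((c : F) - 1) * e.repr (y (e u)) t)), ?_⟩
    rw [dil_apply hfw, dil_apply hfu, hw]
    module⟩
  have hwi : ∀ k, k ≠ t → e.repr w k = e.repr (y (e u)) k := fun k hk => by simp [hw, Ne.symm hk]
  obtain ⟨u', s, c, hc0, hus, hu't, hst, hT⟩ :=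
    hR.hasElem h hq hji (by rw [hwi j hjt]; exact hj) (by rw [hwi i hit]; exact hi)
  obtain ⟨-, L, hL, hLT⟩ := hT
  set τ := tvec (c • e.coord u') (e s) with hτ
  have h0 : (c • e.coord u') (e s) = 0 := by simp [hus.symm]
  have hτt : τ (e t) = e t := by rw [hτ, tvec_apply h0]; simp [hu't]
  obtain ⟨ρ, hρt, hk⟩ := eq_tvec (e := e) (τ⁻¹ * L) (t := t) (fun v => by
      obtain ⟨d, hd⟩ := hLT v
      refine ⟨d, ?_⟩
      apply τ.injective
      rw [LinearEquiv.mul_apply, apply_inv, hd, map_add, map_smul, hτt])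
    (by rw [det_mul, det_inv, det_tvec, hdetM L hL, inv_one, mul_one])
  obtain ⟨w', -, hw'⟩ := Finset.exists_mem_notMem_of_card_lt_card (s := ({t, u', s} : Finset ι)) (t := Finset.univ)
    (Finset.card_le_three.trans_lt (by rw [Finset.card_univ]; have := h.large; omega))
  simp only [Finset.mem_insert, Finset.mem_singleton, not_or] at hw'
  obtain ⟨hw't, hw'u, hw's⟩ := hw'
  set δ := monE e 1 (dpair t w' b) with hδ
  have hδM : δ ∈ M := h.stab _ (mono_monE _ _) (det_dpair (Ne.symm hw't) b)
  have hδi : ∀ i, δ⁻¹ (e i) = ((dpair t w' b i)⁻¹ : Fˣ).1 • e i := fun i => by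
    rw [hδ, monE_inv, monE_basis, inv_one, Equiv.Perm.one_apply]
  have hδτ : δ * τ * δ⁻¹ = τ := by
    rw [hτ, conj_tvec _ h0, hδ, monE_basis, Equiv.Perm.one_apply, dpair_other hst (Ne.symm hw's), Units.val_one, one_smul,
      ← hδ]
    congr 1
    refine e.ext fun i => ?_
    rw [LinearMap.comp_apply, LinearEquiv.coe_coe, hδi]
    rcases eq_or_ne i u' with rfl | hne
    · rw [dpair_other hu't (Ne.symm hw'u), inv_one, Units.val_one, one_smul]
    · simp [Ne.symm hne]
  set ρ' : Dual F V := (b : F) • ρ.comp (δ⁻¹ : V ≃ₗ[F] V).toLinearMap with hρ'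
  have hρ't : ρ' (e t) = 0 := by
    rw [hρ', LinearMap.smul_apply, LinearMap.comp_apply, LinearEquiv.coe_coe, hδi, map_smul, hρt, smul_zero, smul_zero]
  have hk' : δ * (τ⁻¹ * L) * δ⁻¹ = tvec ρ' (e t) := by
    rw [hk, conj_tvec _ hρt, hρ', tvec_smul]
    congr 1
    rw [hδ, monE_basis, dpair_left, Equiv.Perm.one_apply]
  have hmem : tvec (-ρ + ρ') (e t) ∈ M := by
    rw [← tvec_mul_left (by rw [LinearMap.neg_apply, hρt, neg_zero]) hρ't, ← tvec_inv hρt, ← hk, ← hk']
    have := mul_mem (inv_mem hL) (mul_mem (mul_mem hδM hL) (inv_mem hδM))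
    convert this using 1
    have e1 : δ * L * δ⁻¹ = τ * (δ * (τ⁻¹ * L) * δ⁻¹) := by
      conv_rhs => lhs; rw [← hδτ]
      group
    rw [e1]
    group
  by_cases hρ0 : -ρ + ρ' = 0
  · have hρz : ρ = 0 := e.ext fun i => by
      have := LinearMap.congr_fun hρ0 (e i)
      rw [LinearMap.add_apply, LinearMap.neg_apply, hρ', LinearMap.smul_apply, LinearMap.comp_apply,
        LinearEquiv.coe_coe, hδi, map_smul, smul_eq_mul, smul_eq_mul, LinearMap.zero_apply] at this
      rw [LinearMap.zero_apply]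
      rcases eq_or_ne i t with rfl | hit
      · exact hρt
      rcases eq_or_ne i w' with rfl | hiw
      · rw [dpair_right (Ne.symm hit), inv_inv] at this
        refine (mul_eq_zero.1 (show ((b : F) ^ 2 - 1) * ρ (e i) = 0 by linear_combination this)).resolve_left ?_
        exact sub_ne_zero.2 fun e' => hb2 (Units.ext (by rw [Units.val_pow_eq_pow_val, e', Units.val_one]))
      · rw [dpair_other hit hiw, inv_one, Units.val_one, one_mul] at this
        refine (mul_eq_zero.1 (show ((b : F) - 1) * ρ (e i) = 0 by linear_combination this)).resolve_left ?_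
        exact sub_ne_zero.2 fun e' => hb2 (by rw [Units.val_eq_one.1 e', one_pow])
    rw [hρz, tvec_zero_left, inv_mul_eq_one] at hk
    refine ⟨s, c • e.coord u', h0, fun e0 => hc0 ?_, by rw [← hτ, hk]; exact hL⟩
    simpa using LinearMap.congr_fun e0 (e u')
  · exact ⟨t, -ρ + ρ', by rw [LinearMap.add_apply, LinearMap.neg_apply, hρt, hρ't, neg_zero, add_zero], hρ0, hmem⟩

theorem MOver.shrink (h : MOver e M) {b : Fˣ} (hb : b ≠ 1) {s : ι} {φ : Dual F V} (hφ : φ (e s) = 0)
    (hT : tvec φ (e s) ∈ M) {p q : ι} (hpq : p ≠ q) (hp : p ≠ s) (hq : q ≠ s) :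
    ∃ φ' : Dual F V, φ' (e s) = 0 ∧ tvec φ' (e s) ∈ M ∧
      ∀ i, φ' (e i) = (((dpair p q b i)⁻¹ : Fˣ).1 - 1) * φ (e i) := by
  set δ := monE e 1 (dpair p q b) with hδ
  have hδM : δ ∈ M := h.stab _ (mono_monE _ _) (det_dpair hpq b)
  have hs : δ (e s) = e s := by
    rw [hδ, monE_basis, dpair_other hp.symm hq.symm, Units.val_one, one_smul, Equiv.Perm.one_apply]
  have h1 := mul_mem (mul_mem (mul_mem hδM hT) (inv_mem hδM)) (inv_mem hT)
  have h0 : (φ.comp (δ⁻¹ : V ≃ₗ[F] V).toLinearMap) (e s) = 0 := by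
    show φ (δ⁻¹ (e s)) = 0
    conv_lhs => arg 2; arg 2; rw [← hs]
    rw [inv_apply, hφ]
  rw [conj_tvec _ hφ, hs, tvec_inv hφ, tvec_mul_left h0 (by rw [LinearMap.neg_apply, hφ, neg_zero])] at h1
  refine ⟨_, by rw [LinearMap.add_apply, LinearMap.neg_apply, h0, hφ, neg_zero, add_zero], h1, fun i => ?_⟩
  rw [LinearMap.add_apply, LinearMap.neg_apply, LinearMap.comp_apply, LinearEquiv.coe_coe, hδ, monE_inv, monE_basis,
    inv_one, Equiv.Perm.one_apply, map_smul, smul_eq_mul]
  ring

theorem MOver.all_tvec [Fintype F] (h : MOver e M) (hdetM : ∀ g ∈ M, LinearMap.det g.toLinearMap = 1)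
    (hq : 5 ≤ Fintype.card F) (hfix : HasFix e M) :
    ∀ (φ : Dual F V) (v : V), φ v = 0 → tvec φ v ∈ M := by
  classical
  haveI : FiniteDimensional F V := Module.Finite.of_basis e
  obtain ⟨b, hb2, -⟩ := exists_unit_b hq
  have hb : b ≠ 1 := fun e' => hb2 (by rw [e', one_pow])
  obtain ⟨s, φ, hφs, hφ0, hT⟩ := h.single_centre hdetM hq hfix
  obtain ⟨u, hu⟩ : ∃ u, φ (e u) ≠ 0 := by
    by_contra hc
    push Not at hc
    exact hφ0 (e.ext fun i => by rw [hc i, LinearMap.zero_apply])
  have hus : u ≠ s := fun e' => hu (e' ▸ hφs)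
  obtain ⟨w, -, hw⟩ := Finset.exists_mem_notMem_of_card_lt_card (s := ({u, s} : Finset ι)) (t := Finset.univ)
    (Finset.card_le_two.trans_lt (by rw [Finset.card_univ]; have := h.large; omega))
  obtain ⟨w', -, hw'⟩ := Finset.exists_mem_notMem_of_card_lt_card (s := ({u, s, w} : Finset ι)) (t := Finset.univ)
    (Finset.card_le_three.trans_lt (by rw [Finset.card_univ]; have := h.large; omega))
  simp only [Finset.mem_insert, Finset.mem_singleton, not_or] at hw hw'
  obtain ⟨φ₁, hφ₁s, hT₁, hφ₁⟩ := h.shrink hb hφs hT (Ne.symm hw.1) hus hw.2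
  obtain ⟨φ₂, hφ₂s, hT₂, hφ₂⟩ := h.shrink hb hφ₁s hT₁ (Ne.symm hw'.1) hus hw'.2.1
  set k := φ₂ (e u) with hk
  have hk0 : k ≠ 0 := by
    have hb' : ((b⁻¹ : Fˣ) : F) - 1 ≠ 0 := sub_ne_zero.2 fun e' => hb (inv_eq_one.1 (Units.val_eq_one.1 e'))
    rw [hk, hφ₂, hφ₁, dpair_left, dpair_left]
    exact mul_ne_zero hb' (mul_ne_zero hb' hu)
  have hsingle : φ₂ = k • e.coord u := e.ext fun i => by
    rcases eq_or_ne i u with rfl | hiu
    · simp [hk]
    · rw [LinearMap.smul_apply, Basis.coord_apply, Basis.repr_self, Finsupp.single_eq_of_ne hiu.symm, smul_zero, hφ₂]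
      rcases eq_or_ne i w' with rfl | hiw
      · rw [hφ₁, dpair_other (p := u) (q := w) hiu hw'.2.2, inv_one, Units.val_one, sub_self, zero_mul, mul_zero]
      · rw [dpair_other (p := u) (q := w') hiu hiw, inv_one, Units.val_one, sub_self, zero_mul]
  rw [hsingle] at hT₂
  have scaled : ∀ d : F, tvec (d • e.coord u) (e s) ∈ M := fun d => by
    rcases eq_or_ne d 0 with rfl | hd
    · rw [zero_smul, tvec_zero_left]; exact one_mem M
    set δ := monE e 1 (dpair s w (Units.mk0 (d / k) (div_ne_zero hd hk0))) with hδ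
    have hδM : δ ∈ M := h.stab _ (mono_monE _ _) (det_dpair (Ne.symm hw.2) _)
    have h0 : (k • e.coord u) (e s) = 0 := by simp [hus.symm]
    have := mul_mem (mul_mem hδM hT₂) (inv_mem hδM)
    rw [conj_tvec _ h0] at this
    convert this using 1
    rw [hδ, monE_basis, dpair_left, Units.val_mk0, Equiv.Perm.one_apply, ← tvec_smul]
    congr 1
    refine e.ext fun i => ?_
    rw [LinearMap.smul_apply, LinearMap.smul_apply, LinearMap.comp_apply, LinearEquiv.coe_coe, monE_inv, monE_basis,
      inv_one, Equiv.Perm.one_apply, map_smul, LinearMap.smul_apply, Basis.coord_apply,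
      Basis.repr_self]
    rcases eq_or_ne i u with rfl | hiu
    · rw [dpair_other hus (Ne.symm hw.1), inv_one, Units.val_one, one_smul, Finsupp.single_eq_same]
      simp [hk0]
    · simp [hiu.symm]
  have elem : ∀ i j, i ≠ j → ∀ d : F, tvec (d • e.coord i) (e j) ∈ M := fun i j hij d => by
    obtain ⟨σ, hσu, hσs⟩ : ∃ σ : Equiv.Perm ι, σ u = i ∧ σ s = j := by
      refine ⟨(Equiv.swap u i).trans (Equiv.swap (Equiv.swap u i s) j), ?_, ?_⟩
      · rw [Equiv.trans_apply, Equiv.swap_apply_left, Equiv.swap_apply_of_ne_of_ne ?_ hij]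
        intro e'
        exact hus ((Equiv.swap u i).injective ((Equiv.swap_apply_left u i).trans e'))
      · rw [Equiv.trans_apply, Equiv.swap_apply_left]
    obtain ⟨cc, hcc⟩ := exists_det_one (e := e) σ
    have hg := h.stab _ (mono_monE σ cc) hcc
    have h0 : ((d * cc u / cc s) • e.coord u) (e s) = 0 := by simp [hus.symm]
    have := mul_mem (mul_mem hg (scaled (d * cc u / cc s))) (inv_mem hg)
    rw [conj_tvec _ h0, monE_basis, hσs, ← tvec_smul] at this
    convert this using 2
    refine e.ext fun l => ?_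
    obtain ⟨l, rfl⟩ := σ.surjective l
    rw [LinearMap.smul_apply, LinearMap.smul_apply, LinearMap.comp_apply, LinearEquiv.coe_coe, monE_inv, monE_basis,
      map_smul, LinearMap.smul_apply, Basis.coord_apply, Basis.coord_apply, Basis.repr_self, Basis.repr_self,
      Equiv.Perm.inv_def, Equiv.symm_apply_apply, ← hσu]
    rcases eq_or_ne l u with rfl | hlu
    · rw [Finsupp.single_eq_same, Finsupp.single_eq_same, Units.val_inv_eq_inv_val]
      simp only [smul_eq_mul]
      have := (cc l).ne_zero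
      have := (cc s).ne_zero
      field_simp
    · simp [σ.injective.ne hlu, hlu]
  refine all_tvec_of_centres (Set.range e) e.span_eq (v := e s) ⟨s, rfl⟩ (e.ne_zero s) ?_
  rintro _ ⟨j, rfl⟩ ψ hψ
  have key : ∀ S : Finset ι, tvec (∑ i ∈ S, ψ (e i) • e.coord i) (e j) ∈ M := fun S => by
    have hz : ∀ i, (ψ (e i) • e.coord i) (e j) = 0 := fun i => by
      rcases eq_or_ne i j with rfl | hij
      · simp [hψ]
      · simp [hij.symm]
    induction S using Finset.induction with
    | empty => rw [Finset.sum_empty, tvec_zero_left]; exact one_mem M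
    | insert a S ha ih =>
      rw [Finset.sum_insert ha, ← tvec_mul_left (hz a)
        (by rw [LinearMap.sum_apply]; exact Finset.sum_eq_zero fun i _ => hz i)]
      refine mul_mem ?_ ih
      rcases eq_or_ne a j with rfl | haj
      · rw [hψ, zero_smul, tvec_zero_left]; exact one_mem M
      · exact elem a j haj _
  convert key Finset.univ using 2
  exact e.ext fun i => by simp [LinearMap.sum_apply, Finsupp.single_apply]

end Cfsg.Agent.Classical.Decomp
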